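import Cfsg.Agent.Lib.ONan.Axis
import Cfsg.Agent.Lib.Ito.Build

/-!
# Fixed-point sets as hyperplanes of a symmetric design, and the recognition of `PSL n q`
-/

set_option autoImplicit false
set_option linter.style.haveILetI false
set_option linter.unusedSectionVars false

namespace Cfsg.Lib.ONan.Sys

open MulAction Pointwise

variable {G X : Type*} [Group G] [MulAction G X] [Finite G] [Finite X] [FaithfulSMul G X] (S : Sys G X)

theorem card_A_pos {x y : X} : 0 < Nat.card (S.A x y) := Nat.card_pos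

/-- A proper subspace meeting every line. -/
def IsHyp (H : Set X) : Prop :=
  (∀ u ∈ H, ∀ w ∈ H, u ≠ w → S.line u w ⊆ H) ∧ (∀ u w, u ≠ w → ∃ t ∈ S.line u w, t ∈ H) ∧ H ≠ Set.univ

theorem isHyp_fixedBy {x : X} {n : G} (hn : n ∈ S.N x) (hn1 : n ≠ 1) : S.IsHyp (fixedBy X n) :=
  ⟨fun _ hu _ hw huw _ hv => S.fix_line hn huw hu hw hv, fun _ _ huw => S.axis huw hn,
    fun e => hn1 (eq_of_smul_eq_smul fun w : X => by
      rw [one_smul]; exact (Set.eq_univ_iff_forall.1 e w))⟩

theorem hyp_count {H : Set X} (hH : S.IsHyp H) : H.ncard * S.q = Nat.card X - 1 := by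
  classical
  haveI : Fintype X := Fintype.ofFinite X
  obtain ⟨u, hu⟩ := (Set.ne_univ_iff_exists_notMem H).1 hH.2.2
  have hne : ∀ t : H, u ≠ t := fun t e => hu (e ▸ t.2)
  have h := Cfsg.Lib.Ito.count (fun (t : H) (w : X) => w ∈ S.line u t ∧ w ≠ u)
  rw [Finset.sum_congr rfl (g := fun _ => S.q) fun t _ => ?_, Finset.sum_const, Finset.card_univ,
    smul_eq_mul, ← Nat.card_eq_fintype_card, Nat.card_coe_set_eq,
    Cfsg.Lib.Ito.sum_two (fun w => w ≠ u) _ 1 0 (fun w hw => ?_) (fun w hw => ?_),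
    mul_one, mul_zero, add_zero] at h
  rotate_left
  · rw [Set.ncard_eq_one]
    obtain ⟨t, ht, htH⟩ := hH.2.1 u w hw.symm
    have hl : S.line u t = S.line u w :=
      S.line_eq hw.symm (S.left_mem_line hw.symm) ht (hne ⟨t, htH⟩)
    refine ⟨⟨t, htH⟩, Set.eq_singleton_iff_unique_mem.2
      ⟨⟨by rw [hl]; exact S.right_mem_line hw.symm, hw⟩, ?_⟩⟩
    rintro ⟨s, hs⟩ ⟨h1, -⟩
    by_contra he
    have hst : s ≠ t := fun e => he (Subtype.ext e)
    have hl' : S.line u w = S.line u s :=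
      S.line_eq (hne ⟨s, hs⟩) (S.left_mem_line (hne ⟨s, hs⟩)) h1 hw.symm
    have hl2 : S.line s t = S.line u w :=
      S.line_eq hw.symm (by rw [hl']; exact S.right_mem_line (hne ⟨s, hs⟩)) ht hst
    exact hu (hH.1 s hs t htH hst (by rw [hl2]; exact S.left_mem_line hw.symm))
  · rw [Set.ncard_eq_zero, Set.eq_empty_iff_forall_notMem]
    exact fun t ht => hw ht.2
  · have := Set.ncard_sdiff_singleton_add_one (S.left_mem_line (hne t))
    rw [S.ncard_line (hne t)] at this
    change (S.line u t \ {u}).ncard = _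
    omega
  rw [h, show {w : X | w ≠ u} = {u}ᶜ from rfl, Set.ncard_compl, Set.ncard_singleton]

/-- The size of a hyperplane. -/
noncomputable def k : ℕ := (Nat.card X - 1) / S.q

theorem hyp_card {H : Set X} (hH : S.IsHyp H) : H.ncard = S.k := by
  rw [k, ← S.hyp_count hH, Nat.mul_div_cancel _ (by have := S.one_lt_q; omega)]

theorem hyp_eq {H H' : Set X} (hH : S.IsHyp H) (hH' : S.IsHyp H') (h : H ⊆ H') : H = H' :=
  Set.eq_of_subset_of_ncard_le h (by rw [S.hyp_card hH, S.hyp_card hH'])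

theorem card_eqn {x y : X} (h : x ≠ y) : S.k * (S.q - 1) + 1 = S.q * Nat.card (S.A x y) := by
  classical
  haveI : Fintype G := Fintype.ofFinite G
  haveI : Fintype X := Fintype.ofFinite X
  obtain ⟨n, hn, hn1⟩ := S.exists_A h
  have hkq := S.hyp_count (S.isHyp_fixedBy hn.1 hn1)
  rw [S.hyp_card (S.isHyp_fixedBy hn.1 hn1)] at hkq
  have hc := Cfsg.Lib.Ito.count (fun (m : S.N x) (w : X) => w ≠ x ∧ (m : G) • w = w)
  rw [Cfsg.Lib.Ito.sum_two (fun m : S.N x => m = 1) _ (Nat.card X - 1) (S.k - 1) (fun m hm => ?_)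
      (fun m hm => ?_),
    Cfsg.Lib.Ito.sum_two (fun w => w ≠ x) _ (Nat.card (S.A x y)) 0 (fun w hw => ?_) (fun w hw => ?_)] at hc
  rotate_left
  · rw [← Nat.card_coe_set_eq, S.card_A_eq h hw.symm]
    exact Nat.card_congr
      { toFun := fun m => ⟨(m.1 : G), m.1.2, m.2.2⟩
        invFun := fun m => ⟨⟨m.1, m.2.1⟩, hw, m.2.2⟩
        left_inv := fun m => rfl
        right_inv := fun m => rfl }
  · rw [Set.ncard_eq_zero, Set.eq_empty_iff_forall_notMem]
    exact fun m hm => hw hm.1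
  · subst hm
    rw [show {w : X | w ≠ x ∧ ((1 : S.N x) : G) • w = w} = {x}ᶜ by ext w; simp,
      Set.ncard_compl, Set.ncard_singleton]
  · have hF := S.isHyp_fixedBy m.2 (fun e => hm (Subtype.ext e))
    rw [← S.hyp_card hF, ← Set.ncard_sdiff_singleton_of_mem (show x ∈ fixedBy X (m : G) from S.fix m.2)]
    congr 1
    ext w
    simp [and_comm]
  have h1 : {m : S.N x | m = 1}.ncard = 1 := by simp
  have h2 : {m : S.N x | ¬m = 1}.ncard = Nat.card (S.N x) - 1 := by
    rw [show {m : S.N x | ¬m = 1} = {1}ᶜ from rfl, Set.ncard_compl, Set.ncard_singleton]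
  have h3 : {w : X | w ≠ x}.ncard = Nat.card X - 1 := by
    rw [show {w : X | w ≠ x} = {x}ᶜ from rfl, Set.ncard_compl, Set.ncard_singleton]
  rw [h1, h2, h3, one_mul, mul_zero, add_zero, S.card_N_eq h, ← hkq] at hc
  have hq := S.one_lt_q
  have ha : 0 < Nat.card (S.A x y) := S.card_A_pos
  obtain ⟨a, hak⟩ : ∃ a, S.q * Nat.card (S.A x y) = a + 1 :=
    ⟨S.q * Nat.card (S.A x y) - 1, by have := Nat.mul_pos (show 0 < S.q by omega) ha; omega⟩
  obtain ⟨r, hr⟩ : ∃ r, S.q = r + 1 := ⟨S.q - 1, by omega⟩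
  rw [show S.k * S.q * Nat.card (S.A x y) = S.k * (S.q * Nat.card (S.A x y)) by ring, hak,
    Nat.add_sub_cancel] at hc
  rw [hak, hr, Nat.add_sub_cancel]
  rw [hr] at hc
  rcases Nat.eq_zero_or_pos S.k with hk | hk
  · have : 0 < (fixedBy X n).ncard := (Set.ncard_pos).2 ⟨x, S.fix hn.1⟩
    rw [S.hyp_card (S.isHyp_fixedBy hn.1 hn1)] at this
    omega
  · obtain ⟨k', hk'⟩ : ∃ k', S.k = k' + 1 := ⟨S.k - 1, by omega⟩
    rw [hk', Nat.add_sub_cancel] at hc
    rw [hk']
    nlinarith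

theorem one_lt_k : 1 < S.k := by
  obtain ⟨x, y, n, hxy, -⟩ := S.nsr
  have h := S.card_eqn hxy
  have := S.one_lt_q
  have h2 := Nat.mul_le_mul_left S.q (S.one_lt_card_A hxy)
  by_contra hk
  have := Nat.mul_le_mul_right (S.q - 1) (show S.k ≤ 1 by omega)
  omega

theorem tri_of_ne {x b c : X} (hb : x ≠ b) (hc : x ≠ c) (h : S.A x b ≠ S.A x c) : S.Tri x b c := by
  have hbc : b ≠ c := fun e => h (e ▸ rfl)
  exact ⟨hb, hc, hbc, fun hm => h (S.A_line hbc hm (S.left_mem_line hbc) (S.right_mem_line hbc) hb hc)⟩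

/-- The stabiliser subgroups at `x` in the directions of a hyperplane. -/
def fam (x : X) (H : Set X) : Set (Subgroup G) := {B | ∃ w ∈ H, x ≠ w ∧ B = S.A x w}

theorem fam_card_inf {x : X} {H : Set X} {B C : Subgroup G} (hB : B ∈ S.fam x H) (hC : C ∈ S.fam x H)
    (hne : B ≠ C) {y : X} (hy : x ≠ y) : S.q * Nat.card ↥(B ⊓ C) = Nat.card (S.A x y) := by
  obtain ⟨b, -, hxb, rfl⟩ := hB
  obtain ⟨c, -, hxc, rfl⟩ := hC
  rw [← S.card_A_inf (S.tri_of_ne hxb hxc hne), S.card_A_eq hy hxb]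

theorem fam_card {x y : X} (hy : x ≠ y) {H : Set X} (hH : S.IsHyp H) (hx : x ∈ H) :
    (S.fam x H).ncard * (S.q - 1) + 1 ≤ Nat.card (S.A x y) := by
  classical
  haveI : Fintype G := Fintype.ofFinite G
  haveI : Fintype X := Fintype.ofFinite X
  haveI : Fintype (Subgroup G) := Fintype.ofFinite _
  have hc := Cfsg.Lib.Ito.count (fun (B : S.fam x H) (w : X) => (w ∈ H ∧ x ≠ w) ∧ S.A x w = B)
  rw [Cfsg.Lib.Ito.sum_two (fun w => w ∈ H ∧ x ≠ w) _ 1 0 (fun w hw => ?_) (fun w hw => ?_)] at hc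
  rotate_left
  · rw [Set.ncard_eq_one]
    exact ⟨⟨_, w, hw.1, hw.2, rfl⟩, Set.eq_singleton_iff_unique_mem.2
      ⟨⟨hw, rfl⟩, fun B hB => Subtype.ext hB.2.symm⟩⟩
  · rw [Set.ncard_eq_zero, Set.eq_empty_iff_forall_notMem]
    exact fun t ht => hw ht.1
  have hle : (S.fam x H).ncard * S.q ≤ ∑ B : S.fam x H, {w | (w ∈ H ∧ x ≠ w) ∧ S.A x w = B}.ncard := by
    rw [← Nat.card_coe_set_eq, Nat.card_eq_fintype_card, ← Finset.card_univ, ← smul_eq_mul,
      ← Finset.sum_const]
    refine Finset.sum_le_sum fun B _ => ?_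
    obtain ⟨b, hb, hxb, hB⟩ := B.2
    refine le_trans ?_ (Set.ncard_le_ncard (s := S.line x b \ {x}) fun w hw => ?_)
    · have := Set.ncard_sdiff_singleton_add_one (S.left_mem_line hxb)
      rw [S.ncard_line hxb] at this
      omega
    · have hwx : x ≠ w := fun e => hw.2 e.symm
      exact ⟨⟨hH.1 x hx b hb hxb hw.1, hwx⟩,
        by rw [hB, S.A_line hxb (S.left_mem_line hxb) hw.1 (S.right_mem_line hxb) hwx hxb]⟩
  rw [hc, mul_one, mul_zero, add_zero,
    show {w | w ∈ H ∧ x ≠ w} = H \ {x} by ext w; simp [eq_comm],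
    Set.ncard_sdiff_singleton_of_mem hx, S.hyp_card hH] at hle
  have he := S.card_eqn hy
  obtain ⟨r, hr⟩ : ∃ r, S.q = r + 1 := ⟨S.q - 1, by have := S.one_lt_q; omega⟩
  obtain ⟨k', hk⟩ : ∃ k', S.k = k' + 1 := ⟨S.k - 1, by have := S.one_lt_k; omega⟩
  rw [hr, Nat.add_sub_cancel, hk] at he
  rw [hk, hr, Nat.add_sub_cancel] at hle
  rw [hr, Nat.add_sub_cancel]
  have h1 : (S.fam x H).ncard * r * (r + 1) ≤ k' * r := by
    have := Nat.mul_le_mul_right r hle
    linarith
  by_contra hlt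
  have := Nat.mul_le_mul_right (r + 1) (show Nat.card (S.A x y) ≤ (S.fam x H).ncard * r by omega)
  nlinarith

/-- The elements of `N x` fixing a hyperplane through `x` pointwise are at least `q` many. -/
theorem axis_card {x : X} {H : Set X} (hH : S.IsHyp H) (hx : x ∈ H) :
    S.q ≤ {n | n ∈ S.N x ∧ ∀ w ∈ H, n • w = w}.ncard := by
  classical
  haveI : Fintype G := Fintype.ofFinite G
  haveI : Fintype X := Fintype.ofFinite X
  haveI : Fintype (Subgroup G) := Fintype.ofFinite _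
  obtain ⟨y, hy, hxy⟩ : ∃ y ∈ H, x ≠ y := by
    by_contra hall
    push Not at hall
    have := Set.ncard_le_ncard (show H ⊆ {x} from fun y hy => (hall y hy).symm)
    rw [S.hyp_card hH, Set.ncard_singleton] at this
    have := S.one_lt_k
    omega
  set F : Subgroup G → Set (Subgroup G) := fun I => {B | B ∈ S.fam x H ∧ I ≤ B} with hF
  obtain ⟨I, ⟨hIN, hI⟩, hmin⟩ := Set.exists_min_image
    {I : Subgroup G | I ≤ S.N x ∧ Nat.card (S.N x) ≤ Nat.card I * ((F I).ncard * (S.q - 1) + 1)}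
    (fun I => Nat.card I) (Set.toFinite _) ⟨S.N x, le_rfl, Nat.le_mul_of_pos_right _ (Nat.succ_pos _)⟩
  have hall : ∀ B ∈ S.fam x H, I ≤ B := by
    intro B hB
    by_contra hIB
    have hlt : Nat.card ↥(I ⊓ B) < Nat.card I := by
      by_contra hge
      exact hIB (Subgroup.eq_of_le_of_card_ge inf_le_left (not_lt.1 hge) ▸ inf_le_right)
    refine absurd (hmin (I ⊓ B) ⟨inf_le_left.trans hIN, ?_⟩) (not_le.2 hlt)
    have hBN : B ≤ S.N x := by
      obtain ⟨b, -, -, rfl⟩ := hB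
      exact inf_le_left
    have hrel : Nat.card I ≤ Nat.card ↥(I ⊓ B) * S.q := by
      have e1 : B.relIndex (S.N x) = S.q := by
        have h1 := Subgroup.relIndex_mul_relIndex ⊥ B (S.N x) bot_le hBN
        rw [Subgroup.relIndex_bot_left, Subgroup.relIndex_bot_left, S.card_N_eq hxy] at h1
        obtain ⟨b, -, hxb, rfl⟩ := hB
        rw [S.card_A_eq hxy hxb, mul_comm S.q] at h1
        exact Nat.eq_of_mul_eq_mul_left S.card_A_pos h1
      have h2 := Subgroup.relIndex_mul_relIndex ⊥ (I ⊓ B) I bot_le inf_le_left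
      rw [Subgroup.relIndex_bot_left, Subgroup.relIndex_bot_left, inf_comm, Subgroup.inf_relIndex_right,
        inf_comm] at h2
      rw [← h2]
      refine Nat.mul_le_mul_left _ ?_
      rw [← e1]
      exact Subgroup.relIndex_le_of_le_right hIN (by rw [e1]; have := S.one_lt_q; omega)
    have hBI : B ∉ F I := fun h => hIB h.2
    -- the new members
    obtain ⟨b, hbH, hxb, hBb⟩ := id hB
    have hcount : (F I).ncard * S.q + 1 ≤ (F (I ⊓ B)).ncard := by
      have hc := Cfsg.Lib.Ito.count (fun (C : F I) (D : Subgroup G) =>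
        D ≠ B ∧ ∃ c, x ≠ c ∧ S.A x c = C ∧ c ∈ H ∧ ∃ t ∈ S.line b c, t ≠ b ∧ D = S.A x t)
      have hle : (F I).ncard * S.q ≤ ((F (I ⊓ B)) \ {B}).ncard := by
        calc (F I).ncard * S.q = ∑ _C : F I, S.q := by
              rw [Finset.sum_const, Finset.card_univ, ← Nat.card_eq_fintype_card, Nat.card_coe_set_eq,
                smul_eq_mul]
          _ ≤ _ := Finset.sum_le_sum fun C _ => ?_
          _ = _ := hc
          _ ≤ ((F (I ⊓ B)) \ {B}).ncard := ?_
        · obtain ⟨C, hC, hIC⟩ := C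
          obtain ⟨c, hcH, hxc, rfl⟩ := id hC
          have hne : S.A x b ≠ S.A x c := fun e => hIB (by rw [hBb, e]; exact hIC)
          have ht := S.tri_of_ne hxb hxc hne
          refine le_trans ?_ (Set.ncard_le_ncard (s := (fun t => S.A x t) '' (S.line b c \ {b})) ?_)
          · rw [Set.InjOn.ncard_image]
            · have := Set.ncard_sdiff_singleton_add_one (S.left_mem_line ht.2.2.1)
              rw [S.ncard_line ht.2.2.1] at this
              omega
            · intro t ht1 t' ht2 e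
              by_contra htt
              refine S.ne_A (x := x) (y := t) (z := t') ⟨ht.ne_of_mem S ht1.1, ht.ne_of_mem S ht2.1, htt, ?_⟩ e
              rw [S.line_eq ht.2.2.1 ht1.1 ht2.1 htt]
              exact ht.2.2.2
          · rintro D ⟨t, ⟨ht1, ht2⟩, rfl⟩
            refine ⟨fun e => ?_, c, hxc, rfl, hcH, t, ht1, ht2, rfl⟩
            refine S.ne_A (x := x) (y := t) (z := b) ⟨ht.ne_of_mem S ht1, hxb, ht2, ?_⟩ (e.trans hBb)
            rw [S.line_eq ht.2.2.1 ht1 (S.left_mem_line ht.2.2.1) ht2]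
            exact ht.2.2.2
        · rw [Cfsg.Lib.Ito.sum_two (fun D => ∃ C : F I, D ≠ B ∧ ∃ c, x ≠ c ∧ S.A x c = C ∧ c ∈ H ∧
            ∃ t ∈ S.line b c, t ≠ b ∧ D = S.A x t) _ 1 0 (fun D hD => ?_) (fun D hD => ?_), mul_one,
            mul_zero, add_zero]
          · refine Set.ncard_le_ncard ?_
            rintro D ⟨⟨C, hC, hIC⟩, hDB, c, hxc, hcC, hcH, t, ht1, ht2, rfl⟩
            obtain rfl : S.A x c = C := hcC
            have hne : S.A x b ≠ S.A x c := fun e => hIB (by rw [hBb, e]; exact hIC)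
            have ht := S.tri_of_ne hxb hxc hne
            refine ⟨⟨⟨t, hH.1 b hbH c hcH ht.2.2.1 ht1, ht.ne_of_mem S ht1, rfl⟩, ?_⟩, hDB⟩
            calc I ⊓ B ≤ S.A x b ⊓ S.A x c := le_inf (hBb ▸ inf_le_right) (inf_le_left.trans hIC)
              _ = S.A x b ⊓ S.A x t :=
                (S.inf_A ht (S.left_mem_line ht.2.2.1) ht1 (Ne.symm ht2)).symm
              _ ≤ _ := inf_le_right
          · rw [Set.ncard_eq_one]
            obtain ⟨C, hC'⟩ := hD
            refine ⟨C, Set.eq_singleton_iff_unique_mem.2 ⟨hC', ?_⟩⟩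
            intro C' hC''
            obtain ⟨hDB, c, hxc, hcC, hcH, t, ht1, ht2, hDt⟩ := hC'
            obtain ⟨-, c', hxc', hcC', hcH', t', ht1', ht2', hDt'⟩ := hC''
            by_contra hne'
            have hCC : S.A x c' ≠ S.A x c := fun e => hne' (Subtype.ext (by rw [← hcC, ← hcC', e]))
            have hne : S.A x b ≠ S.A x c := fun e => hIB (by rw [hBb, e, hcC]; exact C.2.2)
            have hne'' : S.A x b ≠ S.A x c' := fun e => hIB (by rw [hBb, e, hcC']; exact C'.2.2)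
            have ht := S.tri_of_ne hxb hxc hne
            have ht' := S.tri_of_ne hxb hxc' hne''
            have e1 : S.A x b ⊓ S.A x c = S.A x b ⊓ S.A x c' := by
              rw [← S.inf_A ht (S.left_mem_line ht.2.2.1) ht1 (Ne.symm ht2),
                ← S.inf_A ht' (S.left_mem_line ht'.2.2.1) ht1' (Ne.symm ht2'), ← hDt, ← hDt']
            have e2 : S.A x b ⊓ S.A x c = S.A x c' ⊓ S.A x c := by
              refine Subgroup.eq_of_le_of_card_ge (le_inf (e1 ▸ inf_le_right) inf_le_right) (le_of_eq ?_)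
              have h1 := S.fam_card_inf (H := H) ⟨c', hcH', hxc', rfl⟩ ⟨c, hcH, hxc, rfl⟩ hCC hxy
              have h2 := S.fam_card_inf (H := H) ⟨b, hbH, hxb, rfl⟩ ⟨c, hcH, hxc, rfl⟩ hne hxy
              exact Nat.eq_of_mul_eq_mul_left (by have := S.one_lt_q; omega) (h1.trans h2.symm)
            refine hIB ?_
            rw [hBb]
            refine le_trans (le_inf ?_ ?_) (e2.symm.le.trans inf_le_left)
            · rw [hcC']; exact C'.2.2
            · rw [hcC]; exact C.2.2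
          · rw [Set.ncard_eq_zero, Set.eq_empty_iff_forall_notMem]
            exact fun C hC => hD ⟨C, hC⟩
      have := Set.ncard_sdiff_singleton_add_one (show B ∈ F (I ⊓ B) from ⟨hB, inf_le_right⟩)
      omega
    refine hI.trans (le_trans ?_ (Nat.mul_le_mul_left _
      (Nat.add_le_add_right (Nat.mul_le_mul_right _ hcount) 1)))
    obtain ⟨r, hr⟩ : ∃ r, S.q = r + 1 := ⟨S.q - 1, by have := S.one_lt_q; omega⟩
    rw [hr] at hrel ⊢
    rw [Nat.add_sub_cancel]
    calc Nat.card I * ((F I).ncard * r + 1) ≤ Nat.card ↥(I ⊓ B) * (r + 1) * ((F I).ncard * r + 1) :=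
          Nat.mul_le_mul_right _ hrel
      _ = _ := by ring
  have hle : Nat.card (S.N x) ≤ Nat.card I * Nat.card (S.A x y) :=
    hI.trans (Nat.mul_le_mul_left _ ((Nat.add_le_add_right (Nat.mul_le_mul_right _
      (Set.ncard_le_ncard fun B hB => hB.1)) 1).trans (S.fam_card hxy hH hx)))
  rw [S.card_N_eq hxy] at hle
  refine le_trans (Nat.le_of_mul_le_mul_right hle S.card_A_pos) ?_
  refine le_trans (Nat.card_coe_set_eq (I : Set G)).le
    (Set.ncard_le_ncard fun n hn => ⟨hIN hn, fun w hw => ?_⟩)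
  rcases eq_or_ne x w with rfl | hxw
  · exact S.fix (hIN hn)
  · exact (hall _ ⟨w, hw, hxw, rfl⟩ hn).2

/-- The orbit of a fixed-point set has one member for each point. -/
theorem ncard_orbit {x₀ : X} {n₀ : G} (hn₀ : n₀ ∈ S.N x₀) (h₀ : n₀ ≠ 1) :
    (orbit G (fixedBy X n₀)).ncard = Nat.card X := by
  classical
  haveI : Fintype G := Fintype.ofFinite G
  haveI : Fintype X := Fintype.ofFinite X
  set O := orbit G (fixedBy X n₀) with hO
  haveI : Fintype O := Fintype.ofFinite _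
  have hmem : ∀ B ∈ O, S.IsHyp B := by
    rintro B ⟨g, rfl⟩
    change S.IsHyp (g • fixedBy X n₀)
    rw [smul_fixedBy]
    refine S.isHyp_fixedBy (S.conj_mem g x₀ n₀ hn₀) fun e => h₀ ?_
    rwa [mul_inv_eq_one, mul_eq_left] at e
  have hsmul : ∀ (g : G) (B : Set X), g • B ∈ O ↔ B ∈ O := fun g B => by
    rw [hO, mem_orbit_iff, mem_orbit_iff]
    exact ⟨fun ⟨h, e⟩ => ⟨g⁻¹ * h, by rw [mul_smul, e, inv_smul_smul]⟩,
      fun ⟨h, e⟩ => ⟨g * h, by rw [mul_smul, e]⟩⟩
  -- blocks through points and through pairs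
  have hr : ∀ (g : G) (u : X), {B | B ∈ O ∧ g • u ∈ B}.ncard = {B | B ∈ O ∧ u ∈ B}.ncard := by
    intro g u
    rw [show {B | B ∈ O ∧ g • u ∈ B} = (fun B : Set X => g • B) '' {B | B ∈ O ∧ u ∈ B} from ?_,
      Set.ncard_image_of_injective _ (MulAction.injective g)]
    ext B
    constructor
    · rintro ⟨hB, hu⟩
      exact ⟨g⁻¹ • B, ⟨(hsmul _ _).2 hB, Set.mem_inv_smul_set_iff.2 hu⟩, smul_inv_smul g B⟩
    · rintro ⟨B, ⟨hB, hu⟩, rfl⟩
      exact ⟨(hsmul _ _).2 hB, Set.smul_mem_smul_set hu⟩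
  have hl : ∀ (g : G) (u w : X), {B | B ∈ O ∧ g • u ∈ B ∧ g • w ∈ B}.ncard =
      {B | B ∈ O ∧ u ∈ B ∧ w ∈ B}.ncard := by
    intro g u w
    rw [show {B | B ∈ O ∧ g • u ∈ B ∧ g • w ∈ B} =
        (fun B : Set X => g • B) '' {B | B ∈ O ∧ u ∈ B ∧ w ∈ B} from ?_,
      Set.ncard_image_of_injective _ (MulAction.injective g)]
    ext B
    constructor
    · rintro ⟨hB, hu, hw⟩
      exact ⟨g⁻¹ • B, ⟨(hsmul _ _).2 hB, Set.mem_inv_smul_set_iff.2 hu, Set.mem_inv_smul_set_iff.2 hw⟩,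
        smul_inv_smul g B⟩
    · rintro ⟨B, ⟨hB, hu, hw⟩, rfl⟩
      exact ⟨(hsmul _ _).2 hB, Set.smul_mem_smul_set hu, Set.smul_mem_smul_set hw⟩
  obtain ⟨x, y, n, hxy, -⟩ := S.nsr
  set R := {B | B ∈ O ∧ x ∈ B}.ncard with hR
  set L := {B | B ∈ O ∧ x ∈ B ∧ y ∈ B}.ncard with hL
  have htr : ∀ u, ∃ g : G, g • x = u := by
    intro u
    obtain ⟨t, ht⟩ : ∃ t, t ≠ u := by
      rcases eq_or_ne x u with e | e
      exacts [⟨y, fun e' => hxy (e.trans e'.symm)⟩, ⟨x, e⟩]
    obtain ⟨g, hg, -⟩ := S.tt x y u t hxy ht.symm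
    exact ⟨g, hg⟩
  have hR' : ∀ u, {B | B ∈ O ∧ u ∈ B}.ncard = R := fun u => by
    obtain ⟨g, rfl⟩ := htr u
    exact hr g x
  have hL' : ∀ u w, u ≠ w → {B | B ∈ O ∧ u ∈ B ∧ w ∈ B}.ncard = L := fun u w huw => by
    obtain ⟨g, rfl, rfl⟩ := S.tt x y u w hxy huw
    exact hl g x y
  have hRk : R ≤ S.k := by
    have hc := Cfsg.Lib.Ito.count
      (fun (B : ↥{B | B ∈ O ∧ x ∈ B}) (m : S.N x) => m ≠ 1 ∧ fixedBy X (m : G) = B)
    rw [Cfsg.Lib.Ito.sum_two (fun m : S.N x => ∃ B : ↥{B | B ∈ O ∧ x ∈ B},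
      m ≠ 1 ∧ fixedBy X (m : G) = B) _ 1 0 (fun m hm => ?_) (fun m hm => ?_), mul_one, mul_zero,
      add_zero] at hc
    rotate_left
    · obtain ⟨B, hB⟩ := hm
      rw [Set.ncard_eq_one]
      exact ⟨B, Set.eq_singleton_iff_unique_mem.2
        ⟨hB, fun B' hB' => Subtype.ext (hB'.2.symm.trans hB.2)⟩⟩
    · rw [Set.ncard_eq_zero, Set.eq_empty_iff_forall_notMem]
      exact fun B hB => hm ⟨B, hB⟩
    have h1 : R * (S.q - 1) ≤ ∑ B : ↥{B | B ∈ O ∧ x ∈ B},
        {m : S.N x | m ≠ 1 ∧ fixedBy X (m : G) = B}.ncard := by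
      rw [hR, ← Nat.card_coe_set_eq, Nat.card_eq_fintype_card, ← Finset.card_univ, ← smul_eq_mul,
        ← Finset.sum_const]
      refine Finset.sum_le_sum fun B _ => ?_
      have hB := hmem B.1 B.2.1
      have h2 := S.axis_card hB B.2.2
      rw [show {n | n ∈ S.N x ∧ ∀ w ∈ B.1, n • w = w} =
        Subtype.val '' {m : S.N x | ∀ w ∈ B.1, (m : G) • w = w} by ext; simp [and_comm],
        Set.ncard_image_of_injective _ Subtype.val_injective] at h2
      refine le_trans (Nat.sub_le_sub_right h2 1) ((Set.pred_ncard_le_ncard_sdiff_singleton _ 1).trans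
        (Set.ncard_le_ncard ?_))
      intro m hm
      refine ⟨hm.2, (S.hyp_eq hB (S.isHyp_fixedBy m.2 ?_) hm.1).symm⟩
      exact fun e => hm.2 (Subtype.ext e)
    rw [hc] at h1
    have h3 := Set.ncard_le_ncard (t := ({1}ᶜ : Set (S.N x))) (s := {m : S.N x | ∃ B : ↥{B | B ∈ O ∧ x ∈ B},
      m ≠ 1 ∧ fixedBy X (m : G) = B}) (fun m ⟨B, hm⟩ => hm.1)
    rw [Set.ncard_compl, Set.ncard_singleton, S.card_N_eq hxy, ← S.card_eqn hxy, Nat.add_sub_cancel] at h3
    exact Nat.le_of_mul_le_mul_right (h1.trans h3) (by have := S.one_lt_q; omega)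
  have hflags : O.ncard * S.k = Nat.card X * R := by
    have hc := Cfsg.Lib.Ito.count (fun (B : O) (u : X) => u ∈ (B : Set X))
    rw [Finset.sum_congr rfl (g := fun _ => S.k) fun B _ => ?_,
      Finset.sum_congr rfl (s₁ := (Finset.univ : Finset X)) (g := fun _ => R) fun u _ => ?_,
      Finset.sum_const, Finset.sum_const, Finset.card_univ, Finset.card_univ, ← Nat.card_eq_fintype_card,
      ← Nat.card_eq_fintype_card, smul_eq_mul, smul_eq_mul, Nat.card_coe_set_eq] at hc
    rotate_left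
    · rw [← hR' u, ← Set.ncard_image_of_injective _ Subtype.val_injective]
      congr 1
      ext B
      simp [and_comm]
    · exact S.hyp_card (hmem B.1 B.2)
    exact hc
  have hoX : O.ncard ≤ Nat.card X := by
    refine Nat.le_of_mul_le_mul_right ?_ (show 0 < S.k from by have := S.one_lt_k; omega)
    rw [hflags]
    exact Nat.mul_le_mul_left _ hRk
  refine le_antisymm hoX ?_
  -- the incidence map is injective
  have hRL : L < R := by
    have hsub : ∀ u w : X, {B | B ∈ O ∧ u ∈ B ∧ w ∈ B} ⊆ {B | B ∈ O ∧ u ∈ B} := fun u w B hB => ⟨hB.1, hB.2.1⟩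
    rcases lt_or_ge L R with h | h
    · exact h
    exfalso
    have hx₀ : x₀ ∈ fixedBy X n₀ := S.fix hn₀
    refine (S.isHyp_fixedBy hn₀ h₀).2.2 (Set.eq_univ_iff_forall.2 fun w => ?_)
    rcases eq_or_ne x₀ w with rfl | hw
    · exact hx₀
    have e := Set.eq_of_subset_of_ncard_le (hsub x₀ w) (by rw [hR' x₀, hL' x₀ w hw]; exact h)
    exact ((Set.ext_iff.1 e (fixedBy X n₀)).2 ⟨mem_orbit_self _, hx₀⟩).2.2
  let T : (X → ℚ) →ₗ[ℚ] (O → ℚ) :=
    { toFun := fun f B => ∑ u, if u ∈ (B : Set X) then f u else 0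
      map_add' := fun f g => by
        funext B; simp [← Finset.sum_add_distrib, ← ite_add_zero]
      map_smul' := fun c f => by
        funext B; simp [Finset.mul_sum] }
  have hT : Function.Injective T := by
    rw [injective_iff_map_eq_zero]
    intro f hf
    have key : ∀ w, ((R : ℚ) - L) * f w + L * ∑ u, f u = 0 := by
      intro w
      have h0 : ∑ B : O, (if w ∈ (B : Set X) then T f B else 0) = 0 := by simp [hf]
      have hcnt : ∀ u, ∑ B : O, (if w ∈ (B : Set X) then (if u ∈ (B : Set X) then f u else 0) else 0) =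
          ({B | B ∈ O ∧ w ∈ B ∧ u ∈ B}.ncard : ℚ) * f u := by
        intro u
        rw [Finset.sum_congr rfl (g := fun B : O => if w ∈ (B : Set X) ∧ u ∈ (B : Set X) then f u else 0)
          (fun B _ => by rw [ite_and]), Finset.sum_ite, Finset.sum_const_zero, add_zero, Finset.sum_const,
          nsmul_eq_mul]
        congr 2
        rw [show {B | B ∈ O ∧ w ∈ B ∧ u ∈ B} = Subtype.val '' {B : O | w ∈ (B : Set X) ∧ u ∈ (B : Set X)} by
          ext; simp; tauto, Set.ncard_image_of_injective _ Subtype.val_injective,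
          Set.ncard_eq_toFinset_card']
        simp
      have h1 : ∑ u, ∑ B : O, (if w ∈ (B : Set X) then (if u ∈ (B : Set X) then f u else 0) else 0) = 0 := by
        refine Finset.sum_comm.trans ((Finset.sum_congr rfl fun B _ => ?_).trans h0)
        split_ifs
        · rfl
        · simp
      simp only [hcnt] at h1
      rw [← Finset.add_sum_erase _ _ (Finset.mem_univ w), Finset.sum_congr rfl (g := fun u => (L : ℚ) * f u)
        (fun u hu => by rw [hL' w u (Finset.mem_erase.1 hu).1.symm]), ← Finset.mul_sum,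
        show {B | B ∈ O ∧ w ∈ B ∧ w ∈ B} = {B | B ∈ O ∧ w ∈ B} by simp, hR' w,
        Finset.sum_erase_eq_sub (Finset.mem_univ w)] at h1
      linarith
    have hsum : ∑ u, f u = 0 := by
      have h1 : ∑ w, (((R : ℚ) - L) * f w + L * ∑ u, f u) = 0 := Finset.sum_eq_zero fun w _ => key w
      rw [Finset.sum_add_distrib, ← Finset.mul_sum, Finset.sum_const, Finset.card_univ, nsmul_eq_mul,
        ← mul_assoc, ← add_mul] at h1
      refine (mul_eq_zero.1 h1).resolve_left (ne_of_gt ?_)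
      have : (L : ℚ) < R := by exact_mod_cast hRL
      have : (0 : ℚ) ≤ Nat.cast (Fintype.card X) * L := by positivity
      linarith
    funext w
    have h1 := key w
    rw [hsum, mul_zero, add_zero] at h1
    exact (mul_eq_zero.1 h1).resolve_left (by
      have : (L : ℚ) < R := by exact_mod_cast hRL
      linarith)
  have := LinearMap.finrank_le_finrank_of_injective hT
  rwa [Module.finrank_pi, Module.finrank_pi, ← Nat.card_eq_fintype_card, ← Nat.card_eq_fintype_card,
    Nat.card_coe_set_eq] at this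

include S in
/-- **O'Nan's theorem.** -/
theorem psl (h2 : IsMultiplyPretransitive G X 2) :
    ∃ (m : ℕ) (F : Type) (_ : Field F) (_ : Fintype F), 2 ≤ m ∧
      Nat.card X = (Fintype.card F ^ (m + 1) - 1) / (Fintype.card F - 1) ∧
      ∃ L : Subgroup G, L.Normal ∧
        Nonempty (L ≃* Matrix.ProjectiveSpecialLinearGroup (Fin (m + 1)) F) ∧
        Subgroup.centralizer (L : Set G) = ⊥ := by
  classical
  haveI : Fintype X := Fintype.ofFinite X
  obtain ⟨x, y, n, hxy, hn, hn1, -⟩ := S.nsr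
  set B₀ := fixedBy X n with hB₀
  have hB := S.isHyp_fixedBy hn hn1
  set H := stabilizer G B₀ with hH
  have hidx : H.index = Nat.card X := by rw [hH, index_stabilizer]; exact S.ncard_orbit hn hn1
  have hmem : ∀ {g : G} {u : X}, g ∈ H → u ∈ B₀ → g • u ∈ B₀ := fun {g u} hg hu => by
    rw [← show g • B₀ = B₀ from hg]; exact Set.smul_mem_smul_set hu
  have hnH : n ∈ H := by
    change n • fixedBy X n = fixedBy X n
    rw [smul_fixedBy, mul_inv_cancel_right]
  refine Cfsg.Lib.Ito.ito h2 H hidx ?_ ?_ ⟨x, ⟨n, hnH⟩, fun e => hn1 (congrArg Subtype.val e), ?_⟩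
  · intro ht
    obtain ⟨u, hu⟩ := (Set.ne_univ_iff_exists_notMem B₀).1 hB.2.2
    obtain ⟨⟨g, hg⟩, hgu⟩ := ht.exists_smul_eq x u
    exact hu (hgu ▸ hmem hg (S.fix hn))
  · intro a
    by_contra hall
    push Not at hall
    have hle : H ≤ stabilizer G a := fun g hg => hall ⟨g, hg⟩
    haveI : Nonempty X := ⟨x⟩
    haveI := h2
    haveI : IsPretransitive G X := isPretransitive_of_is_two_pretransitive
    have heq : H = stabilizer G a := by
      refine Subgroup.eq_of_le_of_card_ge hle (le_of_eq ?_)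
      have h1 := H.card_mul_index
      rw [hidx, ← (stabilizer G a).card_mul_index, index_stabilizer_of_transitive] at h1
      exact (Nat.eq_of_mul_eq_mul_right Nat.card_pos h1).symm
    obtain ⟨b, hb, hba⟩ : ∃ b ∈ B₀, b ≠ a := by
      by_contra hcon
      push Not at hcon
      have := Set.ncard_le_ncard (show B₀ ⊆ {a} from hcon)
      rw [S.hyp_card hB, Set.ncard_singleton] at this
      have := S.one_lt_k
      omega
    have hall' : ∀ c, c ≠ a → c ∈ B₀ := by
      intro c hc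
      obtain ⟨g, hg1, hg2⟩ := S.tt a b a c hba.symm hc.symm
      exact hg2 ▸ hmem (show g ∈ H by rw [heq]; exact hg1) hb
    have hc1 := S.hyp_count hB
    have hc2 : Nat.card X - 1 ≤ B₀.ncard := by
      have := Set.ncard_le_ncard (show ({a}ᶜ : Set X) ⊆ B₀ from fun c hc => hall' c hc)
      rwa [Set.ncard_compl, Set.ncard_singleton] at this
    have := Nat.mul_le_mul_left B₀.ncard S.one_lt_q
    rw [S.hyp_card hB] at *
    have := S.one_lt_k
    omega
  · rintro b ⟨⟨g, hg⟩, rfl⟩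
    exact (hmem hg (S.fix hn) : g • x ∈ B₀)

end Cfsg.Lib.ONan.Sys
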