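import Cfsg.Prelude.Def_Local
import Cfsg.Agent.Lib.ONan.Hyper
import Cfsg.Agent.Lib.Core.Layer
import Cfsg.Agent.Lib.Linear.SLBasic

/-!
# O'Nan's characterisation of `PSL n q` by an abelian normal subgroup of a point stabiliser
-/

set_option autoImplicit false

namespace Cfsg.Lib.ONan

open MulAction

/-- A normal non-abelian simple subgroup with trivial centraliser is the generalised Fitting subgroup. -/
theorem generalizedFitting_eq {G : Type*} [Group G] [Finite G] {L : Subgroup G} (hn : L.Normal)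
    (hs : IsSimpleGroup L) (hc : Subgroup.centralizer (L : Set G) = ⊥) :
    Cfsg.generalizedFittingSubgroup G = L := by
  have hnt : L ≠ ⊥ := L.nontrivial_iff_ne_bot.1 inferInstance
  have hle : ∀ K : Subgroup G, ⁅L, K⁆ = ⊥ → K = ⊥ := fun K h => by
    rw [Subgroup.commutator_comm] at h
    exact le_bot_iff.1 (hc ▸ Subgroup.commutator_eq_bot_iff_le_centralizer.1 h)
  have hna : ¬ IsMulCommutative L := fun h => hnt (hle L (by
    rw [Subgroup.commutator_eq_bot_iff_le_centralizer]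
    intro a ha b hb
    exact congrArg Subtype.val (h.is_comm.comm (⟨b, hb⟩ : L) ⟨a, ha⟩)))
  have hL : Cfsg.IsComponent L :=
    Cfsg.Lib.Core.isComponent_of_isSimple_of_isSubnormal hn.isSubnormal hs hna
  refine le_antisymm (sup_le (sSup_le fun K hK => ?_) ?_) ((Cfsg.Lib.Core.le_layer hL).trans le_sup_left)
  · rcases Cfsg.Lib.Core.component_le_or_commute hK hn.isSubnormal with h | h
    · exact h
    · rw [Subgroup.commutator_comm] at h
      rw [hle K h]; exact bot_le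
  · rw [hle _ (Cfsg.Lib.Core.component_commute_fitting hL)]; exact bot_le

/-- Existence of the system of abelian groups of prime exponent. -/
theorem exists_sys {G X : Type*} [Group G] [Finite G] [MulAction G X]
    (h2 : IsMultiplyPretransitive G X 2) (x : X) (N : Subgroup G) (hNle : N ≤ stabilizer G x)
    (hNnormal : ∀ g ∈ stabilizer G x, ∀ n ∈ N, g * n * g⁻¹ ∈ N) (hNab : IsMulCommutative N)
    (hnsr : ∃ n ∈ N, n ≠ 1 ∧ ∃ y : X, y ≠ x ∧ n • y = y) : Nonempty (Sys G X) := by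
  classical
  obtain ⟨n, hn, hn1, y, hyx, hny⟩ := hnsr
  have tt : ∀ a b a' b' : X, a ≠ b → a' ≠ b' → ∃ g : G, g • a = a' ∧ g • b = b' := fun _ _ _ _ h h' =>
    is_two_pretransitive_iff.1 h2 h h'
  have hcom : ∀ {a b : G}, a ∈ N → b ∈ N → a * b = b * a := fun ha hb =>
    congrArg Subtype.val (hNab.is_comm.comm (⟨_, ha⟩ : N) ⟨_, hb⟩)
  obtain ⟨p, hp, hpd⟩ := Nat.exists_prime_and_dvd (fun h => hn1 (orderOf_eq_one_iff.1 h) : orderOf n ≠ 1)
  let N0 : Subgroup G :=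
    { carrier := {m | m ∈ N ∧ m ^ p = 1}
      one_mem' := ⟨one_mem _, one_pow _⟩
      mul_mem' := fun {a b} ha hb => ⟨mul_mem ha.1 hb.1, by
        rw [Commute.mul_pow (hcom ha.1 hb.1), ha.2, hb.2, one_mul]⟩
      inv_mem' := fun {a} ha => ⟨inv_mem ha.1, by rw [inv_pow, ha.2, inv_one]⟩ }
  have hN0 : ∀ g : G, g • x = x → ∀ m ∈ N0, g * m * g⁻¹ ∈ N0 := fun g hg m hm =>
    ⟨hNnormal g hg m hm.1, by rw [conj_pow, hm.2, mul_one, mul_inv_cancel]⟩
  have htr : ∀ u : X, ∃ g : G, g • x = u := by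
    intro u
    obtain ⟨t, ht⟩ : ∃ t, u ≠ t := by
      rcases eq_or_ne u x with e | e
      exacts [⟨y, fun e' => hyx (e'.symm.trans e)⟩, ⟨x, e⟩]
    obtain ⟨g, hg, -⟩ := tt x y u t hyx.symm ht
    exact ⟨g, hg⟩
  choose t ht using htr
  refine ⟨{
    N := fun u => N0.map (MulAut.conj (t u)).toMonoidHom
    p := p
    hp := hp
    conj_mem := ?_
    fix := ?_
    comm := ?_
    pow := ?_
    tt := tt
    nsr := ?_ }⟩
  · rintro g u m ⟨m0, hm0, rfl⟩
    refine ⟨((t (g • u))⁻¹ * g * t u) * m0 * ((t (g • u))⁻¹ * g * t u)⁻¹, hN0 _ ?_ m0 hm0, ?_⟩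
    · rw [mul_smul, mul_smul, ht u, inv_smul_eq_iff, ht]
    · simp [mul_assoc]
  · rintro u m ⟨m0, hm0, rfl⟩
    change (t u * m0 * (t u)⁻¹) • u = u
    rw [mul_smul, mul_smul, inv_smul_eq_iff.2 (ht u).symm,
      show m0 • x = x from hNle hm0.1, ht u]
  · rintro u m m' ⟨a, ha, rfl⟩ ⟨b, hb, rfl⟩
    rw [← map_mul, ← map_mul, hcom ha.1 hb.1]
  · rintro u m ⟨a, ha, rfl⟩
    rw [← map_pow, ha.2, map_one]
  · have hmem : ∀ m ∈ N0, m ∈ N0.map (MulAut.conj (t x)).toMonoidHom := fun m hm =>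
      ⟨(t x)⁻¹ * m * (t x)⁻¹⁻¹, hN0 _ (inv_smul_eq_iff.2 (ht x).symm) m hm, by simp [mul_assoc]⟩
    refine ⟨x, y, n ^ (orderOf n / p), hyx.symm, hmem _ ⟨pow_mem hn _, ?_⟩, ?_, ?_⟩
    · rw [← pow_mul, Nat.div_mul_cancel hpd, pow_orderOf_eq_one]
    · intro e
      have h1 := Nat.le_of_dvd (Nat.div_pos (Nat.le_of_dvd (orderOf_pos n) hpd) hp.pos)
        (orderOf_dvd_of_pow_eq_one e)
      exact absurd h1 (not_le.2 (Nat.div_lt_self (orderOf_pos n) hp.one_lt))
    · exact (stabilizer G y).pow_mem hny _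

end Cfsg.Lib.ONan
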