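import Cfsg.Agent.Lib.ONan.Line
import Cfsg.Agent.Lib.Ito.Centre

/-!
# Every element has a fixed point on every line
-/

set_option autoImplicit false
set_option linter.style.haveILetI false
set_option linter.unusedSectionVars false

namespace Cfsg.Lib.ONan.Sys

open MulAction

variable {G X : Type*} [Group G] [MulAction G X] [Finite G] [Finite X] [FaithfulSMul G X] (S : Sys G X)

theorem card_N (u w : X) : Nat.card (S.N u) = Nat.card (S.N w) := by
  suffices key : ∀ u w : X, Nat.card (S.N u) ≤ Nat.card (S.N w) from le_antisymm (key u w) (key w u)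
  intro u w
  obtain ⟨x, y, n, hxy, -⟩ := S.nsr
  obtain ⟨g, hg⟩ : ∃ g : G, g • u = w := by
    obtain ⟨t, ht⟩ : ∃ t, t ≠ u := by
      rcases eq_or_ne x u with rfl | h
      exacts [⟨y, hxy.symm⟩, ⟨x, h⟩]
    obtain ⟨s, hs⟩ : ∃ s, s ≠ w := by
      rcases eq_or_ne x w with rfl | h
      exacts [⟨y, hxy.symm⟩, ⟨x, h⟩]
    obtain ⟨g, hg, -⟩ := S.tt u t w s ht.symm hs.symm
    exact ⟨g, hg⟩
  refine Nat.card_le_card_of_injective (fun n => ⟨g * n * g⁻¹, hg ▸ S.conj_mem g u n n.2⟩) fun m n e => ?_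
  exact Subtype.ext (mul_left_cancel (mul_right_cancel (congrArg Subtype.val e)))

/-- The index of a stabiliser subgroup. -/
noncomputable def q : ℕ :=
  Nat.card (S.N S.nsr.choose) / Nat.card (S.A S.nsr.choose S.nsr.choose_spec.choose)

theorem card_N_eq {u x y : X} (h : x ≠ y) : Nat.card (S.N u) = S.q * Nat.card (S.A x y) := by
  obtain ⟨n, hab, -⟩ := S.nsr.choose_spec.choose_spec
  rw [q, S.card_A_eq h hab, S.card_N u S.nsr.choose, Nat.div_mul_cancel]
  exact Subgroup.card_dvd_of_le inf_le_left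

theorem one_lt_q : 1 < S.q := by
  obtain ⟨x, y, n, hxy, hn, hn1, -⟩ := S.nsr
  have hc := S.card_N_eq (u := x) hxy
  have hpos : 0 < Nat.card (S.N x) := Nat.card_pos
  by_contra hq
  interval_cases hq' : S.q
  · omega
  · refine hn1 (eq_of_smul_eq_smul fun w : X => ?_)
    rw [one_smul]
    rcases eq_or_ne x w with rfl | hw
    · exact S.fix hn
    · have e : S.A x w = S.N x := Subgroup.eq_of_le_of_card_ge inf_le_left
        (by rw [hc, one_mul, S.card_A_eq hw hxy])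
      exact (show n ∈ S.A x w by rw [e]; exact hn).2

theorem card_line {x y u w : X} (h : x ≠ y) (h' : u ≠ w) : (S.line x y).ncard = (S.line u w).ncard := by
  obtain ⟨g, hg1, hg2⟩ := S.tt x y u w h h'
  have e : S.line u w = (g • ·) '' S.line x y := by
    subst hg1 hg2
    ext v
    constructor
    · intro hv
      refine ⟨g⁻¹ • v, (S.line_smul_iff g h).1 ?_, smul_inv_smul g v⟩
      rwa [smul_inv_smul]
    · rintro ⟨v, hv, rfl⟩
      exact S.line_smul_mem g h hv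
  rw [e, Set.ncard_image_of_injective _ (MulAction.injective g)]

/-- Three points not on a line. -/
def Tri (x y z : X) : Prop := x ≠ y ∧ x ≠ z ∧ y ≠ z ∧ x ∉ S.line y z

theorem Tri.swap {x y z : X} (h : S.Tri x y z) : S.Tri x z y :=
  ⟨h.2.1, h.1, h.2.2.1.symm, by rw [← S.line_symm h.2.2.1]; exact h.2.2.2⟩

theorem Tri.rot {x y z : X} (h : S.Tri x y z) : S.Tri y x z := by
  refine ⟨h.1.symm, h.2.2.1, h.2.1, fun hy => h.2.2.2 ?_⟩
  rw [S.line_eq h.2.1 hy (S.right_mem_line h.2.1) h.2.2.1]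
  exact S.left_mem_line h.2.1

theorem Tri.ne_of_mem {x y z w : X} (h : S.Tri x y z) (hw : w ∈ S.line y z) : x ≠ w :=
  fun e => h.2.2.2 (e ▸ hw)

theorem inf_A {x y z w w' : X} (h : S.Tri x y z) (hw : w ∈ S.line y z) (hw' : w' ∈ S.line y z)
    (hne : w ≠ w') : S.A x w ⊓ S.A x w' = S.A x y ⊓ S.A x z := by
  ext n
  constructor
  · rintro ⟨h1, h2⟩
    have := fun v hv => S.fix_line h1.1 hne h1.2 h2.2 (v := v) hv
    rw [S.line_eq h.2.2.1 hw hw' hne] at this
    exact ⟨⟨h1.1, this y (S.left_mem_line h.2.2.1)⟩, h1.1, this z (S.right_mem_line h.2.2.1)⟩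
  · rintro ⟨h1, h2⟩
    have := fun v hv => S.fix_line h1.1 h.2.2.1 h1.2 h2.2 (v := v) hv
    exact ⟨⟨h1.1, this w hw⟩, h1.1, this w' hw'⟩

/-- The elements of `N x` with a fixed point on the line `y z` form a subgroup. -/
theorem mul_fix {x y z w₁ w₂ : X} (h : S.Tri x y z) (hw₁ : w₁ ∈ S.line y z) (hw₂ : w₂ ∈ S.line y z)
    {a v : G} (ha : a ∈ S.A x w₁) (hv : v ∈ S.A x w₂) : ∃ w ∈ S.line y z, (a * v) • w = w := by
  by_cases hv1 : v • w₁ = w₁
  · exact ⟨w₁, hw₁, by rw [mul_smul, hv1]; exact ha.2⟩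
  have hne : w₁ ≠ w₂ := fun e => hv1 (e ▸ hv.2)
  have hxw := h.ne_of_mem S hw₁
  have hφ : ∀ b : S.A w₁ x, (b : G) * v * (b : G)⁻¹ * v⁻¹ ∈ S.A x w₁ := by
    rintro ⟨b, hb⟩
    refine ⟨(S.N x).mul_mem (S.conj_stab hb.2 hv.1) ((S.N x).inv_mem hv.1), ?_⟩
    change (b * v * b⁻¹ * v⁻¹) • w₁ = w₁
    have h1 : b • v⁻¹ • w₁ = v⁻¹ • w₁ :=
      S.line_fix hxw (S.smul_mem_line hxw (inv_mem hv.1)) (Subgroup.mem_sup_right hb)
    rw [mul_smul, mul_smul, mul_smul, inv_smul_eq_iff.2 h1.symm, smul_inv_smul]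
    exact S.fix hb.1
  have hinj : Function.Injective fun b : S.A w₁ x => (⟨_, hφ b⟩ : S.A x w₁) := by
    intro b c e
    have e1 : (b : G) * v * (b : G)⁻¹ = c * v * (c : G)⁻¹ := mul_right_cancel (congrArg Subtype.val e)
    by_contra hbc
    refine hv1 (S.fix_of_comm (g := v) (n := (c : G)⁻¹ * b) (mul_mem (inv_mem c.2.1) b.2.1) ?_ ?_)
    · exact fun e2 => hbc (Subtype.ext (inv_mul_eq_one.1 e2).symm)
    · calc v * ((c : G)⁻¹ * b) = (c : G)⁻¹ * (c * v * (c : G)⁻¹) * b := by group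
        _ = (c : G)⁻¹ * b * v := by rw [← e1]; group
  haveI : Fintype G := Fintype.ofFinite G
  obtain ⟨b, hb⟩ := ((Nat.bijective_iff_injective_and_card _).2
    ⟨hinj, S.card_A_eq hxw.symm hxw⟩).2 ⟨a, ha⟩
  have hb' : (b : G) * v * (b : G)⁻¹ * v⁻¹ = a := congrArg Subtype.val hb
  refine ⟨(b : G) • w₂, ?_, ?_⟩
  · have := S.smul_mem_line hne b.2.1
    rwa [S.line_eq h.2.2.1 hw₁ hw₂ hne] at this
  · rw [show a * v = (b : G) * v * (b : G)⁻¹ by rw [← hb']; group, mul_smul, mul_smul, inv_smul_smul,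
      show v • w₂ = w₂ from hv.2]

/-- A triangle with two different stabiliser subgroups. -/
theorem tri_spec {x y z : X} (h : S.Tri x y z) (hne : S.A x y ≠ S.A x z) :
    (S.line y z).ncard = S.q + 1 ∧ (∀ n ∈ S.N x, ∃ w ∈ S.line y z, n • w = w) ∧
      Nat.card (S.A x y) = S.q * Nat.card ↥(S.A x y ⊓ S.A x z) := by
  classical
  haveI : Fact S.p.Prime := ⟨S.hp⟩
  haveI : Fintype G := Fintype.ofFinite G
  haveI : Fintype X := Fintype.ofFinite X
  set D : Subgroup G := S.A x y ⊓ S.A x z with hD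
  let U : Subgroup G :=
    { carrier := {n | n ∈ S.N x ∧ ∃ w ∈ S.line y z, n • w = w}
      one_mem' := ⟨one_mem _, y, S.left_mem_line h.2.2.1, one_smul _ _⟩
      mul_mem' := by
        rintro a v ⟨ha, w₁, hw₁, ha'⟩ ⟨hv, w₂, hw₂, hv'⟩
        exact ⟨mul_mem ha hv, S.mul_fix h hw₁ hw₂ ⟨ha, ha'⟩ ⟨hv, hv'⟩⟩
      inv_mem' := by
        rintro a ⟨ha, w, hw, ha'⟩
        exact ⟨inv_mem ha, w, hw, inv_smul_eq_iff.2 ha'.symm⟩ }
  have hAD : ∀ w ∈ S.line y z, D ≤ S.A x w := fun w hw => by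
    rcases eq_or_ne w y with rfl | hwy
    · exact inf_le_left
    · rw [hD, ← S.inf_A h hw (S.left_mem_line h.2.2.1) hwy]; exact inf_le_left
  have hDU : D ≤ U := fun n hn => ⟨hn.1.1, y, S.left_mem_line h.2.2.1, hn.1.2⟩
  -- the count
  have hcount := Cfsg.Lib.Ito.count (fun (w : S.line y z) (n : G) => n ∈ S.A x w ∧ n ∉ D)
  rw [Finset.sum_congr rfl (g := fun _ => Nat.card (S.A x y) - Nat.card D) fun w _ => ?_,
    Finset.sum_const, Finset.card_univ, smul_eq_mul, ← Nat.card_eq_fintype_card, Nat.card_coe_set_eq,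
    Cfsg.Lib.Ito.sum_two (fun n => n ∈ U ∧ n ∉ D) _ 1 0 (fun n hn => ?_) (fun n hn => ?_),
    mul_one, mul_zero, add_zero] at hcount
  rotate_left
  · obtain ⟨⟨hnx, w, hw, hnw⟩, hnD⟩ := hn
    rw [Set.ncard_eq_one]
    refine ⟨⟨w, hw⟩, Set.eq_singleton_iff_unique_mem.2 ⟨⟨⟨hnx, hnw⟩, hnD⟩, ?_⟩⟩
    rintro ⟨w', hw'⟩ ⟨h1, -⟩
    by_contra he
    refine hnD ?_
    rw [hD, ← S.inf_A h hw hw' (fun e => he (Subtype.ext e.symm))]
    exact ⟨⟨hnx, hnw⟩, h1⟩
  · rw [Set.ncard_eq_zero, Set.eq_empty_iff_forall_notMem]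
    rintro ⟨w, hw⟩ ⟨h1, h2⟩
    exact hn ⟨⟨h1.1, w, hw, h1.2⟩, h2⟩
  · change ((S.A x w : Set G) \ D).ncard = _
    rw [Set.ncard_sdiff (hAD w w.2), ← Nat.card_coe_set_eq, ← Nat.card_coe_set_eq]
    congr 1
    exact S.card_A_eq (h.ne_of_mem S w.2) h.1
  have hU : {n | n ∈ U ∧ n ∉ D}.ncard + Nat.card D = Nat.card U := by
    have := Set.ncard_sdiff_add_ncard_of_subset (s := (D : Set G)) (t := U) hDU
    rwa [← Nat.card_coe_set_eq, ← Nat.card_coe_set_eq (U : Set G)] at this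
  -- the size of the line
  have hm : S.q ∣ (S.line y z \ {y}).ncard := by
    refine Cfsg.Lib.Ito.dvd_of_fibres (fun w => orbit (S.N y) w) _ _ fun a ha => ?_
    have hya : y ≠ a := fun e => ha.2 e.symm
    have e : {b | b ∈ S.line y z \ {y} ∧ orbit (S.N y) b = orbit (S.N y) a} = orbit (S.N y) a := by
      ext b
      refine ⟨fun hb => hb.2 ▸ mem_orbit_self b, fun hb => ⟨?_, orbit_eq_iff.2 hb⟩⟩
      obtain ⟨⟨n, hn⟩, rfl⟩ := hb
      exact ⟨S.smul_mem_line' h.2.2.1 hn ha.1,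
        fun e => ha.2 (smul_left_cancel n (e.trans (S.fix hn).symm))⟩
    have hst : Nat.card (stabilizer (S.N y) a) = Nat.card (S.A y a) :=
      Nat.card_congr
        { toFun := fun n => ⟨(n.1 : G), n.1.2, n.2⟩
          invFun := fun n => ⟨⟨n.1, n.2.1⟩, n.2.2⟩
          left_inv := fun n => rfl
          right_inv := fun n => rfl }
    have hmul := (stabilizer (S.N y) a).card_mul_index
    rw [hst, index_stabilizer, S.card_N_eq hya, mul_comm] at hmul
    rw [e]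
    exact Nat.eq_of_mul_eq_mul_right Nat.card_pos hmul
  obtain ⟨t, ht⟩ := hm
  have hmt : (S.line y z).ncard = S.q * t + 1 := by
    rw [← Set.ncard_sdiff_singleton_add_one (S.left_mem_line h.2.2.1), ht]
  have ht0 : 1 ≤ t := by
    rcases Nat.eq_zero_or_pos t with rfl | h0
    · rw [mul_zero, Set.ncard_eq_zero] at ht
      have : z ∈ S.line y z \ {y} := ⟨S.right_mem_line h.2.2.1, h.2.2.1.symm⟩
      simp [ht] at this
    · exact h0
  -- prime powers
  have hUN : U ≤ S.N x := fun n hn => hn.1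
  have hpow : ∀ H : Subgroup G, H ≤ S.N x → ∃ k, Nat.card H = S.p ^ k := fun H hH =>
    IsPGroup.iff_card.1 (S.isPGroup_of_le hH)
  obtain ⟨δ, hδ⟩ := Subgroup.card_dvd_of_le (show D ≤ S.A x y from inf_le_left)
  have hδ2 : 2 ≤ δ := by
    by_contra hlt
    have hpos : 0 < Nat.card (S.A x y) := Nat.card_pos
    interval_cases δ
    · omega
    · refine hne (Subgroup.eq_of_le_of_card_ge (fun n hn => ?_) (S.card_A_eq h.1 h.2.1).ge)
      have : n ∈ D := by
        rw [Subgroup.eq_of_le_of_card_ge (show D ≤ S.A x y from inf_le_left) (by rw [hδ, mul_one])]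
        exact hn
      exact this.2
  have hN := S.card_N_eq (u := x) h.1
  have hUd : Nat.card U = Nat.card D * ((δ - 1) * (S.q * t + 1) + 1) := by
    rw [← hU, ← hcount, hmt, hδ]
    obtain ⟨e, rfl⟩ : ∃ e, δ = e + 1 := ⟨δ - 1, by omega⟩
    rw [Nat.add_sub_cancel, show Nat.card D * (e + 1) - Nat.card D = Nat.card D * e by
      rw [Nat.mul_succ, Nat.add_sub_cancel]]
    ring
  set E := (δ - 1) * (S.q * t + 1) + 1 with hE
  have hdvd : E ∣ S.q * δ := by
    have := Subgroup.card_dvd_of_le hUN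
    rw [hUd, hN, hδ, show S.q * (Nat.card D * δ) = Nat.card D * (S.q * δ) by ring] at this
    exact Nat.dvd_of_mul_dvd_mul_left Nat.card_pos this
  have hqE : S.q ∣ E := by
    obtain ⟨a, ha⟩ := hpow _ hUN
    obtain ⟨b, hb⟩ := hpow _ (le_refl (S.N x))
    obtain ⟨a', -, ha'⟩ := (Nat.dvd_prime_pow S.hp).1 (show E ∣ S.p ^ a from ⟨Nat.card D, by
      rw [← ha, hUd, mul_comm]⟩)
    obtain ⟨b', -, hb'⟩ := (Nat.dvd_prime_pow S.hp).1 (show S.q ∣ S.p ^ b from ⟨_, hb.symm.trans hN⟩)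
    rw [ha', hb']
    refine Nat.pow_dvd_pow _ ((Nat.pow_le_pow_iff_right S.hp.one_lt).1 ?_)
    rw [← ha', ← hb', hE]
    have : S.q * 1 ≤ S.q * t := Nat.mul_le_mul_left _ ht0
    have : 1 * (S.q * t + 1) ≤ (δ - 1) * (S.q * t + 1) := Nat.mul_le_mul_right _ (by omega)
    omega
  have hqδ : S.q ∣ δ := by
    obtain ⟨e, rfl⟩ : ∃ e, δ = e + 1 := ⟨δ - 1, by omega⟩
    rw [hE, Nat.add_sub_cancel, show e * (S.q * t + 1) + 1 = S.q * (e * t) + (e + 1) by ring] at hqE
    exact (Nat.dvd_add_right (dvd_mul_right _ _)).1 hqE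
  obtain ⟨s, hs⟩ := hqδ
  have hq := S.one_lt_q
  have hEq : E = S.q * (s + t * (δ - 1)) := by
    obtain ⟨e, he⟩ : ∃ e, δ = e + 1 := ⟨δ - 1, by omega⟩
    rw [hE]
    rw [he, Nat.add_sub_cancel]
    rw [show e * (S.q * t + 1) + 1 = (e + 1) + S.q * (t * e) by ring, ← he, hs]
    ring
  have hle : s + t * (δ - 1) ≤ δ :=
    Nat.le_of_dvd (by omega) (Nat.dvd_of_mul_dvd_mul_left (by omega) (hEq ▸ hdvd))
  have hs1 : 1 ≤ s := by
    rcases Nat.eq_zero_or_pos s with rfl | h0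
    · omega
    · exact h0
  have hts : t = 1 ∧ s = 1 := by
    obtain ⟨e, rfl⟩ : ∃ e, δ = e + 1 := ⟨δ - 1, by omega⟩
    rw [Nat.add_sub_cancel] at hle
    have : t = 1 := by
      by_contra h1
      have : 2 * e ≤ t * e := Nat.mul_le_mul_right _ (by omega)
      omega
    subst this
    omega
  obtain ⟨rfl, rfl⟩ := hts
  refine ⟨by rw [hmt, mul_one], fun n hn => ?_, ?_⟩
  · have hUe : U = S.N x := Subgroup.eq_of_le_of_card_ge hUN (by
      rw [hUd, hN, hδ, hEq, hs, mul_one]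
      obtain ⟨r, hr⟩ : ∃ r, S.q = r + 1 := ⟨S.q - 1, by omega⟩
      rw [hr, Nat.add_sub_cancel]
      ring_nf
      exact le_refl _)
    rw [← hUe] at hn
    exact hn.2
  · rw [hδ, hs, mul_one, mul_comm]

theorem eq_A {x y z : X} (h : S.Tri x y z) (e : S.A x y = S.A x z) : S.A z x = S.A z y := by
  suffices hle : S.A z y ≤ S.A z x from
    (Subgroup.eq_of_le_of_card_ge hle (S.card_A_eq h.2.2.1.symm h.2.1.symm).ge).symm
  intro c hc
  by_contra hcx
  have hzx := h.2.1.symm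
  have hφ : ∀ a : S.A x y, (a : G) * c * (a : G)⁻¹ * c⁻¹ ∈ S.A z y ⊓ S.A z x := by
    rintro ⟨a, ha⟩
    have ha' : a ∈ S.A x z := e ▸ ha
    have haz : a • z = z := ha'.2
    have hm : a * c * a⁻¹ * c⁻¹ ∈ S.N z := mul_mem (S.conj_stab haz hc.1) (inv_mem hc.1)
    have hcy : c • y = y := hc.2
    refine ⟨⟨hm, ?_⟩, hm, ?_⟩
    · change (a * c * a⁻¹ * c⁻¹) • y = y
      rw [mul_smul, mul_smul, mul_smul, inv_smul_eq_iff.2 hcy.symm,
        inv_smul_eq_iff.2 (show a • y = y from ha.2).symm, hcy]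
      exact ha.2
    · change (a * c * a⁻¹ * c⁻¹) • x = x
      have h1 : a • c⁻¹ • x = c⁻¹ • x := by
        refine S.line_fix hzx (S.smul_mem_line hzx (inv_mem hc.1)) (Subgroup.mem_sup_right ?_)
        exact ha'
      rw [mul_smul, mul_smul, mul_smul, inv_smul_eq_iff.2 h1.symm, smul_inv_smul]
      exact S.fix ha.1
  have hinj : Function.Injective fun a : S.A x y => (⟨_, hφ a⟩ : ↥(S.A z y ⊓ S.A z x)) := by
    intro a b e
    have e1 : (a : G) * c * (a : G)⁻¹ = b * c * (b : G)⁻¹ := mul_right_cancel (congrArg Subtype.val e)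
    by_contra hab
    refine hcx ⟨hc.1, S.fix_of_comm (g := c) (n := (b : G)⁻¹ * a) (mul_mem (inv_mem b.2.1) a.2.1) ?_ ?_⟩
    · exact fun e2 => hab (Subtype.ext (inv_mul_eq_one.1 e2).symm)
    · calc c * ((b : G)⁻¹ * a) = (b : G)⁻¹ * (b * c * (b : G)⁻¹) * a := by group
        _ = (b : G)⁻¹ * a * c := by rw [← e1]; group
  have hle := Nat.card_le_card_of_injective _ hinj
  rw [S.card_A_eq h.1 h.2.2.1.symm] at hle
  have := Subgroup.eq_of_le_of_card_ge (show S.A z y ⊓ S.A z x ≤ S.A z y from inf_le_left) hle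
  exact hcx (this.symm ▸ hc : c ∈ S.A z y ⊓ S.A z x).2

/-- In a triangle with equal stabiliser subgroups at `x` these fix every point. -/
theorem ne_A {x y z : X} (h : S.Tri x y z) : S.A x y ≠ S.A x z := by
  intro e
  have spread : ∀ {u : X}, S.Tri u x y → S.A u x = S.A u y → S.A x u = S.A x y := by
    intro u h' e'
    exact S.eq_A (h'.swap S) e'.symm
  obtain ⟨a, ha, ha1⟩ := S.exists_A h.1
  obtain ⟨u, hu⟩ : ∃ u, a • u ≠ u := by
    by_contra hall
    push Not at hall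
    exact ha1 (eq_of_smul_eq_smul fun w : X => by rw [hall w, one_smul])
  have hax : a • x = x := S.fix ha.1
  have haz : a ∈ S.A x z := e ▸ ha
  have hne : ∀ w, a • w = w → u ≠ w := fun w hw e => hu (e ▸ hw)
  have hoff : ∀ {s t : X}, s ≠ t → a • s = s → a • t = t → u ∉ S.line s t := fun hst h1 h2 hm =>
    hu (S.fix_line ha.1 hst h1 h2 hm)
  have hux := hne x hax
  have huy := hne y ha.2
  have huz := hne z haz.2
  have txy : S.Tri u x y := ⟨hux, huy, h.1, hoff h.1 hax ha.2⟩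
  have txz : S.Tri u x z := ⟨hux, huz, h.2.1, hoff h.2.1 hax haz.2⟩
  have tyz : S.Tri u y z := ⟨huy, huz, h.2.2.1, hoff h.2.2.1 ha.2 haz.2⟩
  have dxy : S.A u x ≠ S.A u y := fun e' => hu (by
    have := spread txy e'
    exact (show a ∈ S.A x u by rw [this]; exact ha).2)
  have hD : S.A u x ⊓ S.A u y ≤ S.A u z := by
    rintro n ⟨hn1, hn2⟩
    refine ⟨hn1.1, ?_⟩
    by_contra hnz
    have h1 : a ∈ S.A x (n • z) := by
      have := S.A_conj n (u := x) (w := z) (n := n⁻¹ * a * n) ?_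
      · rwa [show n • x = x from hn1.2, show n * (n⁻¹ * a * n) * n⁻¹ = a by group] at this
      · rw [← e]
        have := S.A_conj n⁻¹ ha
        rwa [inv_smul_eq_iff.2 (show n • x = x from hn1.2).symm,
          inv_smul_eq_iff.2 (show n • y = y from hn2.2).symm, inv_inv] at this
    refine hu (S.fix_line ha.1 (Ne.symm hnz) haz.2 h1.2 ?_)
    rw [S.line_eq huz (S.right_mem_line huz) (S.smul_mem_line huz hn1.1) (Ne.symm hnz)]
    exact S.left_mem_line huz
  obtain ⟨-, hfix, hcard⟩ := S.tri_spec txy dxy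
  obtain ⟨n, hn, hnD⟩ : ∃ n ∈ S.A u z, n ∉ S.A u x ⊓ S.A u y := by
    by_contra hall
    push Not at hall
    have h1 := Subgroup.card_le_of_le (fun n hn => hall n hn : S.A u z ≤ S.A u x ⊓ S.A u y)
    rw [S.card_A_eq huz hux, hcard] at h1
    have : 0 < Nat.card ↥(S.A u x ⊓ S.A u y) := Nat.card_pos
    have := S.one_lt_q
    nlinarith
  obtain ⟨w, hw, hnw⟩ := hfix n hn.1
  have haw : a • w = w := S.fix_line ha.1 h.1 hax ha.2 hw
  have huw := hne w haw
  have hzl : z ∉ S.line x y := by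
    rw [S.line_symm h.1]; exact (((h.rot S).swap S).rot S).2.2.2
  have hzw : z ≠ w := fun e' => hzl (e' ▸ hw)
  have tzw : S.Tri u z w := ⟨huz, huw, hzw, hoff hzw haz.2 haw⟩
  have dzw : S.A u z ≠ S.A u w := by
    intro e'
    rcases eq_or_ne w x with hwx | hwx
    · have e2 := S.eq_A tzw e'
      rw [hwx] at e2
      exact hu (show a ∈ S.A x u by rw [e2]; exact haz).2
    · have hl : S.line x w = S.line x y := S.line_eq h.1 (S.left_mem_line h.1) hw hwx.symm
      have hxw : S.Tri x w z := ⟨hwx.symm, h.2.1, hzw.symm, fun hm => by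
        refine hzl ?_
        rw [← hl, S.line_eq hzw.symm hm (S.left_mem_line hzw.symm) hwx.symm]
        exact S.right_mem_line hzw.symm⟩
      have e1 : S.A x w = S.A x z := by
        rw [← e, S.A_line h.1 (S.left_mem_line h.1) hw (S.right_mem_line h.1) hwx.symm h.1]
      have e2 : S.A w z = S.A w x := (S.eq_A (hxw.swap S) e1.symm).symm
      have e3 : S.A w u = S.A w z := S.eq_A tzw e'
      have t2 : S.Tri w u x := ⟨huw.symm, hwx, hux, fun hm => hoff hwx.symm hax haw (by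
        rw [S.line_eq hux (S.right_mem_line hux) hm hwx.symm]
        exact S.left_mem_line hux)⟩
      have e4 : S.A x w = S.A x u := S.eq_A t2 (e3.trans e2)
      exact hu (show a ∈ S.A x u by
        rw [← e4, e1]; exact haz).2
  obtain ⟨-, -, hcard'⟩ := S.tri_spec tzw dzw
  have hlt : S.A u x ⊓ S.A u y < S.A u z ⊓ S.A u w := by
    refine lt_of_le_of_ne (le_inf hD fun m hm => ⟨hm.1.1, ?_⟩) fun e' => hnD (e'.symm ▸ ⟨hn, hn.1, hnw⟩)
    exact S.fix_line hm.1.1 h.1 hm.1.2 hm.2.2 hw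
  have h1 := Set.ncard_lt_ncard (SetLike.coe_ssubset_coe.2 hlt)
  rw [← Nat.card_coe_set_eq, ← Nat.card_coe_set_eq] at h1
  change Nat.card ↥(S.A u x ⊓ S.A u y) < Nat.card ↥(S.A u z ⊓ S.A u w) at h1
  rw [S.card_A_eq huz hux] at hcard'
  have := hcard.symm.trans hcard'
  have := Nat.eq_of_mul_eq_mul_left (by have := S.one_lt_q; omega) this
  omega

theorem exists_tri : ∃ x y z : X, S.Tri x y z := by
  obtain ⟨x, y, n, hxy, hn, hn1, hny⟩ := S.nsr
  obtain ⟨z, hz⟩ : ∃ z, n • z ≠ z := by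
    by_contra hall
    push Not at hall
    exact hn1 (eq_of_smul_eq_smul fun w : X => by rw [hall w, one_smul])
  have hxz : x ≠ z := fun e => hz (e ▸ S.fix hn)
  have hyz : y ≠ z := fun e => hz (e ▸ hny)
  exact ⟨z, x, y, hxz.symm, hyz.symm, hxy, fun hm => hz (S.fix_line hn hxy (S.fix hn) hny hm)⟩

/-- Every element has a fixed point on every line. -/
theorem axis {x u w : X} (huw : u ≠ w) {n : G} (hn : n ∈ S.N x) : ∃ v ∈ S.line u w, n • v = v := by
  by_cases hx : x ∈ S.line u w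
  · exact ⟨x, hx, S.fix hn⟩
  have ht : S.Tri x u w := ⟨fun e => hx (by rw [e]; exact S.left_mem_line huw),
    fun e => hx (by rw [e]; exact S.right_mem_line huw), huw, hx⟩
  exact (S.tri_spec ht (S.ne_A ht)).2.1 n hn

theorem ncard_line {u w : X} (huw : u ≠ w) : (S.line u w).ncard = S.q + 1 := by
  obtain ⟨x, y, z, h⟩ := S.exists_tri
  rw [S.card_line huw h.2.2.1]
  exact (S.tri_spec h (S.ne_A h)).1

theorem card_A_inf {x y z : X} (h : S.Tri x y z) :
    Nat.card (S.A x y) = S.q * Nat.card ↥(S.A x y ⊓ S.A x z) :=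
  (S.tri_spec h (S.ne_A h)).2.2

end Cfsg.Lib.ONan.Sys
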