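import Mathlib

/-!
# Abelian normal subgroups of two-transitive point stabilisers: trivial intersections and lines
-/

set_option autoImplicit false
set_option linter.style.haveILetI false
set_option linter.unusedSectionVars false

namespace Cfsg.Lib.ONan

open MulAction

variable (G X : Type*) [Group G] [MulAction G X]

/-- A conjugacy-invariant family of abelian groups of prime exponent, one in each point stabiliser, some of whose
non-trivial elements fix a second point. -/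
structure Sys where
  N : X → Subgroup G
  p : ℕ
  hp : p.Prime
  conj_mem : ∀ (g : G) (u : X) (n : G), n ∈ N u → g * n * g⁻¹ ∈ N (g • u)
  fix : ∀ {u : X} {n : G}, n ∈ N u → n • u = u
  comm : ∀ {u : X} {m n : G}, m ∈ N u → n ∈ N u → m * n = n * m
  pow : ∀ {u : X} {n : G}, n ∈ N u → n ^ p = 1
  tt : ∀ x y x' y' : X, x ≠ y → x' ≠ y' → ∃ g : G, g • x = x' ∧ g • y = y'
  nsr : ∃ (x y : X) (n : G), x ≠ y ∧ n ∈ N x ∧ n ≠ 1 ∧ n • y = y

variable {G X}

namespace Sys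

variable [Finite G] [Finite X] [FaithfulSMul G X] (S : Sys G X)

theorem mem_conj {g : G} {u : X} {n : G} : g * n * g⁻¹ ∈ S.N (g • u) ↔ n ∈ S.N u := by
  refine ⟨fun h => ?_, S.conj_mem g u n⟩
  have h2 := S.conj_mem g⁻¹ _ _ h
  rwa [inv_smul_smul, inv_inv, show g⁻¹ * (g * n * g⁻¹) * g = n by group] at h2

theorem conj_stab {g : G} {u : X} (h : g • u = u) {n : G} (hn : n ∈ S.N u) : g * n * g⁻¹ ∈ S.N u := by
  have := S.conj_mem g u n hn
  rwa [h] at this

theorem conj_self {u : X} {m n : G} (hm : m ∈ S.N u) (hn : n ∈ S.N u) : m * n * m⁻¹ = n := by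
  rw [S.comm hm hn, mul_inv_cancel_right]

/-- Two of the groups meet trivially. -/
theorem ti {x y : X} (hne : x ≠ y) : S.N x ⊓ S.N y = ⊥ := by
  classical
  have cst : ∀ {a b c d : X}, a ≠ b → c ≠ d →
      Nat.card ↥(S.N a ⊓ S.N b) ≤ Nat.card ↥(S.N c ⊓ S.N d) := by
    intro a b c d hab hcd
    obtain ⟨g, hg1, hg2⟩ := S.tt a b c d hab hcd
    refine Nat.card_le_card_of_injective (fun n => ⟨g * n * g⁻¹,
      hg1 ▸ S.conj_mem g a n n.2.1, hg2 ▸ S.conj_mem g b n n.2.2⟩) fun m n h => ?_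
    exact Subtype.ext (mul_left_cancel (mul_right_cancel (congrArg Subtype.val h)))
  let Ψ : X → X → Set X := fun a b => {u | S.N a ⊓ S.N b ≤ S.N u}
  have Ψeq : ∀ {a b u w : X}, a ≠ b → u ∈ Ψ a b → w ∈ Ψ a b → u ≠ w → Ψ u w = Ψ a b := by
    intro a b u w hab hu hw huw
    have h : S.N a ⊓ S.N b = S.N u ⊓ S.N w :=
      Subgroup.eq_of_le_of_card_ge (le_inf hu hw) (cst huw hab)
    ext z
    change S.N u ⊓ S.N w ≤ S.N z ↔ S.N a ⊓ S.N b ≤ S.N z
    rw [h]
  have Ψstab : ∀ {a b : X} {n : G}, n ∈ S.N a → ∀ u ∈ Ψ a b, n • u ∈ Ψ a b := by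
    intro a b n hn u hu m hm
    have h := S.conj_mem n u m (hu hm)
    rwa [S.conj_self hn hm.1] at h
  rw [Subgroup.eq_bot_iff_forall]
  intro n hn
  refine eq_of_smul_eq_smul fun z : X => ?_
  rw [one_smul]
  by_cases hz : z ∈ Ψ x y
  · exact S.fix (hz hn)
  by_contra hnz
  have hxz : x ≠ z := fun e => hz (e ▸ (inf_le_left : S.N x ⊓ S.N y ≤ S.N x))
  have hyz : y ≠ z := fun e => hz (e ▸ (inf_le_right : S.N x ⊓ S.N y ≤ S.N y))
  have memL : ∀ a b : X, a ∈ Ψ a b := fun a b => (inf_le_left : S.N a ⊓ S.N b ≤ S.N a)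
  have memR : ∀ a b : X, b ∈ Ψ a b := fun a b => (inf_le_right : S.N a ⊓ S.N b ≤ S.N b)
  have h1 := Ψeq hxz (memR x z) (Ψstab hn.1 z (memR x z)) (Ne.symm hnz)
  have h2 := Ψeq hyz (memR y z) (Ψstab hn.2 z (memR y z)) (Ne.symm hnz)
  have h3 := Ψeq hxz (memL x z) (h1 ▸ h2 ▸ memL y z : y ∈ Ψ x z) hne
  exact hz (h3 ▸ memR x z)

theorem eq_of_mem {x y : X} {n : G} (hx : n ∈ S.N x) (hy : n ∈ S.N y) (hn : n ≠ 1) : x = y := by
  by_contra h
  exact hn ((Subgroup.eq_bot_iff_forall _).1 (S.ti h) n ⟨hx, hy⟩)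

/-- An element centralising a non-trivial element of a group fixes its point. -/
theorem fix_of_comm {g n : G} {u : X} (hn : n ∈ S.N u) (hn1 : n ≠ 1) (h : g * n = n * g) : g • u = u := by
  have h1 := S.conj_mem g u n hn
  rw [h, mul_inv_cancel_right] at h1
  exact S.eq_of_mem h1 hn hn1

/-- The elements of a group fixing another point. -/
def A (u w : X) : Subgroup G := S.N u ⊓ stabilizer G w

theorem mem_A {u w : X} {n : G} : n ∈ S.A u w ↔ n ∈ S.N u ∧ n • w = w := Iff.rfl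

theorem A_conj (g : G) {u w : X} {n : G} (h : n ∈ S.A u w) : g * n * g⁻¹ ∈ S.A (g • u) (g • w) := by
  refine ⟨S.conj_mem g u n h.1, ?_⟩
  change (g * n * g⁻¹) • g • w = g • w
  rw [mul_smul, mul_smul, inv_smul_smul, show n • w = w from h.2]

theorem card_A_eq {u w u' w' : X} (h : u ≠ w) (h' : u' ≠ w') :
    Nat.card (S.A u w) = Nat.card (S.A u' w') := by
  suffices key : ∀ {u w u' w' : X}, u ≠ w → u' ≠ w' → Nat.card (S.A u w) ≤ Nat.card (S.A u' w') from
    le_antisymm (key h h') (key h' h)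
  intro u w u' w' h h'
  obtain ⟨g, hg1, hg2⟩ := S.tt u w u' w' h h'
  refine Nat.card_le_card_of_injective
    (fun n => ⟨g * n * g⁻¹, hg1 ▸ hg2 ▸ S.A_conj g n.2⟩) fun m n e => ?_
  exact Subtype.ext (mul_left_cancel (mul_right_cancel (congrArg Subtype.val e)))

theorem one_lt_card_A {u w : X} (h : u ≠ w) : 1 < Nat.card (S.A u w) := by
  obtain ⟨x, y, n, hxy, hn, hn1, hny⟩ := S.nsr
  rw [S.card_A_eq h hxy, Finite.one_lt_card_iff_nontrivial]
  exact ⟨⟨⟨n, hn, hny⟩, 1, fun e => hn1 (congrArg Subtype.val e)⟩⟩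

theorem exists_A {u w : X} (h : u ≠ w) : ∃ n ∈ S.A u w, n ≠ 1 := by
  have := Finite.one_lt_card_iff_nontrivial.1 (S.one_lt_card_A h)
  obtain ⟨⟨n, hn⟩, hne⟩ := exists_ne (1 : ↥(S.A u w))
  exact ⟨n, hn, fun e => hne (Subtype.ext e)⟩

/-- The stabiliser subgroup is constant on an orbit. -/
theorem A_orbit {u : X} {m : G} (hm : m ∈ S.N u) (w : X) : S.A u (m • w) = S.A u w := by
  ext n
  refine and_congr_right fun hn => ?_
  change n • m • w = m • w ↔ n • w = w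
  rw [← mul_smul, S.comm hn hm, mul_smul, smul_left_cancel_iff]

/-- The group spanned by two opposite stabiliser subgroups. -/
def AB (x y : X) : Subgroup G := S.A x y ⊔ S.A y x

theorem AB_symm (x y : X) : S.AB x y = S.AB y x := sup_comm _ _

theorem A_commute {x y : X} (h : x ≠ y) {a b : G} (ha : a ∈ S.A x y) (hb : b ∈ S.A y x) :
    a * b = b * a := by
  have h1 : a * b * a⁻¹ * b⁻¹ ∈ S.N y := mul_mem (S.conj_stab ha.2 hb.1) (inv_mem hb.1)
  have h2 : a * b * a⁻¹ * b⁻¹ ∈ S.N x := by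
    rw [show a * b * a⁻¹ * b⁻¹ = a * (b * a⁻¹ * b⁻¹) by group]
    exact mul_mem ha.1 (S.conj_stab hb.2 (inv_mem ha.1))
  by_contra hne
  refine h (S.eq_of_mem h2 h1 fun e => hne ?_)
  rwa [mul_inv_eq_one, mul_inv_eq_iff_eq_mul] at e

theorem mem_AB {x y : X} (h : x ≠ y) {g : G} :
    g ∈ S.AB x y ↔ ∃ a ∈ S.A x y, ∃ b ∈ S.A y x, a * b = g := by
  have hle : S.A x y ≤ Subgroup.normalizer (S.A y x : Set G) := fun a ha => by
    rw [Subgroup.mem_normalizer_iff]
    intro n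
    constructor
    · intro hn
      have e : a * n * a⁻¹ = n := by rw [S.A_commute h ha hn, mul_inv_cancel_right]
      exact e.symm ▸ hn
    · intro hn
      have e : a⁻¹ * (a * n * a⁻¹) * a = a * n * a⁻¹ := by
        rw [S.A_commute h (inv_mem ha) hn, inv_mul_cancel_right]
      rw [show a⁻¹ * (a * n * a⁻¹) * a = n by group] at e
      exact e.symm ▸ hn
  rw [AB, ← SetLike.mem_coe, Subgroup.coe_mul_of_left_le_normalizer_right _ _ hle, Set.mem_mul]
  rfl

theorem AB_comm {x y : X} (h : x ≠ y) {g k : G} (hg : g ∈ S.AB x y) (hk : k ∈ S.AB x y) :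
    g * k = k * g := by
  obtain ⟨a, ha, b, hb, rfl⟩ := (S.mem_AB h).1 hg
  obtain ⟨c, hc, d, hd, rfl⟩ := (S.mem_AB h).1 hk
  calc a * b * (c * d) = a * (b * c) * d := by group
    _ = a * (c * b) * d := by rw [S.A_commute h hc hb]
    _ = (a * c) * (b * d) := by group
    _ = (c * a) * (d * b) := by rw [S.comm ha.1 hc.1, S.comm hb.1 hd.1]
    _ = c * (a * d) * b := by group
    _ = c * (d * a) * b := by rw [S.A_commute h ha hd]
    _ = c * d * (a * b) := by group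

theorem AB_fix {x y : X} (h : x ≠ y) {g : G} (hg : g ∈ S.AB x y) : g • x = x ∧ g • y = y := by
  obtain ⟨a, ha, b, hb, rfl⟩ := (S.mem_AB h).1 hg
  rw [mul_smul, mul_smul, show b • x = x from hb.2, show b • y = y from S.fix hb.1]
  exact ⟨S.fix ha.1, ha.2⟩

theorem card_AB {x y : X} (h : x ≠ y) : Nat.card (S.AB x y) = Nat.card (S.A x y) * Nat.card (S.A x y) := by
  conv_rhs => arg 2; rw [S.card_A_eq h (Ne.symm h)]
  rw [← Nat.card_prod]
  refine (Nat.card_eq_of_bijective (fun z : ↥(S.A x y) × ↥(S.A y x) =>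
    (⟨z.1 * z.2, (S.mem_AB h).2 ⟨_, z.1.2, _, z.2.2, rfl⟩⟩ : ↥(S.AB x y))) ⟨?_, ?_⟩).symm
  · rintro ⟨a, b⟩ ⟨c, d⟩ e
    have e1 : (a : G) * b = c * d := congrArg Subtype.val e
    have e2 : (c : G)⁻¹ * a = d * (b : G)⁻¹ := by
      rw [eq_mul_inv_iff_mul_eq, mul_assoc, e1, inv_mul_cancel_left]
    have e3 : (c : G)⁻¹ * a = 1 := by
      by_contra h1
      exact h (S.eq_of_mem (mul_mem (inv_mem c.2.1) a.2.1) (e2 ▸ mul_mem d.2.1 (inv_mem b.2.1)) h1)
    obtain rfl : a = c := Subtype.ext (inv_mul_eq_one.1 e3).symm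
    simp only [mul_right_inj] at e1
    rw [Subtype.ext e1]
  · rintro ⟨g, hg⟩
    obtain ⟨a, ha, b, hb, rfl⟩ := (S.mem_AB h).1 hg
    exact ⟨(⟨a, ha⟩, ⟨b, hb⟩), rfl⟩

/-- The line through two points. -/
def line (x y : X) : Set X := {w | Nat.card ↥(S.N w ⊓ S.AB x y) = Nat.card (S.A x y)}

theorem line_fix {x y w : X} (h : x ≠ y) (hw : w ∈ S.line x y) {g : G} (hg : g ∈ S.AB x y) : g • w = w := by
  have hlt : 1 < Nat.card ↥(S.N w ⊓ S.AB x y) := hw.symm ▸ S.one_lt_card_A h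
  have := Finite.one_lt_card_iff_nontrivial.1 hlt
  obtain ⟨⟨n, hn1, hn2⟩, hne⟩ := exists_ne (1 : ↥(S.N w ⊓ S.AB x y))
  exact S.fix_of_comm hn1 (fun e => hne (Subtype.ext e)) (S.AB_comm h hg hn2)

theorem left_mem_line {x y : X} (h : x ≠ y) : x ∈ S.line x y := by
  change Nat.card ↥(S.N x ⊓ S.AB x y) = Nat.card (S.A x y)
  rw [show S.N x ⊓ S.AB x y = S.A x y from le_antisymm
    (fun n hn => ⟨hn.1, (S.AB_fix h hn.2).2⟩) (le_inf inf_le_left le_sup_left)]

theorem line_symm {x y : X} (h : x ≠ y) : S.line x y = S.line y x := by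
  ext w
  change _ = _ ↔ _ = _
  rw [S.AB_symm, S.card_A_eq h (Ne.symm h)]

theorem right_mem_line {x y : X} (h : x ≠ y) : y ∈ S.line x y := by
  rw [S.line_symm h]; exact S.left_mem_line (Ne.symm h)

theorem inf_AB {x y u w : X} (h : x ≠ y) (hu : u ∈ S.line x y) (hw : w ∈ S.line x y) (huw : u ≠ w) :
    S.N u ⊓ S.AB x y = S.A u w :=
  Subgroup.eq_of_le_of_card_ge (fun n hn => ⟨hn.1, S.line_fix h hw hn.2⟩)
    (by rw [show Nat.card ↥(S.N u ⊓ S.AB x y) = _ from hu, S.card_A_eq h huw])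

theorem AB_eq {x y u w : X} (h : x ≠ y) (hu : u ∈ S.line x y) (hw : w ∈ S.line x y) (huw : u ≠ w) :
    S.AB u w = S.AB x y := by
  refine Subgroup.eq_of_le_of_card_ge (sup_le ?_ ?_) ?_
  · rw [← S.inf_AB h hu hw huw]; exact inf_le_right
  · rw [← S.inf_AB h hw hu (Ne.symm huw)]; exact inf_le_right
  · rw [S.card_AB h, S.card_AB huw, S.card_A_eq h huw]

theorem line_eq {x y u w : X} (h : x ≠ y) (hu : u ∈ S.line x y) (hw : w ∈ S.line x y) (huw : u ≠ w) :
    S.line u w = S.line x y := by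
  ext z
  change _ = _ ↔ _ = _
  rw [S.AB_eq h hu hw huw, S.card_A_eq h huw]

/-- On a line through `u` the stabiliser subgroup of `u` is constant. -/
theorem A_line {x y u w w' : X} (h : x ≠ y) (hu : u ∈ S.line x y) (hw : w ∈ S.line x y)
    (hw' : w' ∈ S.line x y) (h1 : u ≠ w) (h2 : u ≠ w') : S.A u w = S.A u w' := by
  rw [← S.inf_AB h hu hw h1, S.inf_AB h hu hw' h2]

theorem line_smul_mem (g : G) {x y w : X} (h : x ≠ y) (hw : w ∈ S.line x y) :
    g • w ∈ S.line (g • x) (g • y) := by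
  have hg : g • x ≠ g • y := fun e => h (smul_left_cancel g e)
  refine le_antisymm ?_ ?_
  · have hsub : S.N (g • w) ⊓ S.AB (g • x) (g • y) ≤
        (S.N w ⊓ S.AB x y).map (MulAut.conj g).toMonoidHom := by
      rintro n ⟨hn1, hn2⟩
      refine ⟨g⁻¹ * n * g, ⟨?_, ?_⟩, by simp [mul_assoc]⟩
      · change g⁻¹ * n * g ∈ S.N w
        rwa [← S.mem_conj (g := g), show g * (g⁻¹ * n * g) * g⁻¹ = n by group]
      · obtain ⟨a, ha, b, hb, rfl⟩ := (S.mem_AB hg).1 hn2
        refine (S.mem_AB h).2 ⟨g⁻¹ * a * g, ?_, g⁻¹ * b * g, ?_, by group⟩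
        · have := S.A_conj g⁻¹ ha
          rwa [inv_smul_smul, inv_smul_smul, inv_inv] at this
        · have := S.A_conj g⁻¹ hb
          rwa [inv_smul_smul, inv_smul_smul, inv_inv] at this
    rw [S.card_A_eq hg h, ← show Nat.card ↥(S.N w ⊓ S.AB x y) = _ from hw]
    exact (Subgroup.card_le_of_le hsub).trans (Nat.card_congr
      ((S.N w ⊓ S.AB x y).equivMapOfInjective _ (MulAut.conj g).injective).toEquiv).ge
  · rw [S.card_A_eq hg h, ← show Nat.card ↥(S.N w ⊓ S.AB x y) = _ from hw]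
    refine Nat.card_le_card_of_injective (fun n => ⟨g * n * g⁻¹, S.conj_mem g w n n.2.1, ?_⟩) ?_
    · obtain ⟨a, ha, b, hb, hab⟩ := (S.mem_AB h).1 n.2.2
      exact (S.mem_AB hg).2 ⟨_, S.A_conj g ha, _, S.A_conj g hb, by rw [← hab]; group⟩
    · intro m n e
      exact Subtype.ext (mul_left_cancel (mul_right_cancel (congrArg Subtype.val e)))

theorem line_smul_iff (g : G) {x y w : X} (h : x ≠ y) :
    g • w ∈ S.line (g • x) (g • y) ↔ w ∈ S.line x y := by
  refine ⟨fun hw => ?_, S.line_smul_mem g h⟩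
  have := S.line_smul_mem g⁻¹ (fun e => h (smul_left_cancel g e)) hw
  rwa [inv_smul_smul, inv_smul_smul, inv_smul_smul] at this

end Sys

end Cfsg.Lib.ONan
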