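import Cfsg.Agent.Lib.ONan.Basic

/-!
# Each of the abelian groups stabilises the lines through its point
-/

set_option autoImplicit false
set_option linter.style.haveILetI false
set_option linter.unusedSectionVars false

namespace Cfsg.Lib.ONan.Sys

open MulAction

variable {G X : Type*} [Group G] [MulAction G X] [Finite G] [Finite X] [FaithfulSMul G X] (S : Sys G X)

theorem isPGroup_of_le {u : X} {H : Subgroup G} (h : H ≤ S.N u) : IsPGroup S.p H := fun n =>
  ⟨1, Subtype.ext (by rw [pow_one]; exact S.pow (h n.2))⟩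

/-- The part of `N y` moving `x` only to fixed points of `A x y`. -/
def C1 (x y : X) : Subgroup G where
  carrier := {b | b ∈ S.N y ∧ ∀ a ∈ S.A x y, a • b • x = b • x}
  one_mem' := ⟨one_mem _, fun a ha => by rw [one_smul, S.fix ha.1]⟩
  mul_mem' := by
    rintro b c ⟨hb, hb'⟩ ⟨hc, hc'⟩
    refine ⟨mul_mem hb hc, fun a ha => ?_⟩
    have h1 : a * b * a⁻¹ ∈ S.N y := S.conj_stab ha.2 hb
    calc a • (b * c) • x = (a * b * a⁻¹) • a • c • x := by simp [mul_smul]
      _ = ((a * b * a⁻¹) * c) • x := by rw [hc' a ha, ← mul_smul]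
      _ = c • (a * b * a⁻¹) • x := by rw [S.comm h1 hc, mul_smul]
      _ = c • a • b • x := by
        rw [mul_smul, mul_smul, show a⁻¹ • x = x from inv_smul_eq_iff.2 (S.fix ha.1).symm]
      _ = (c * b) • x := by rw [hb' a ha, mul_smul]
      _ = (b * c) • x := by rw [S.comm hc hb]
  inv_mem' := by
    rintro b ⟨hb, hb'⟩
    refine ⟨inv_mem hb, fun a ha => ?_⟩
    have h1 : a * b * a⁻¹ ∈ S.N y := S.conj_stab ha.2 hb
    have h2 : (a * b * a⁻¹) • x = b • x := by
      rw [mul_smul, mul_smul, show a⁻¹ • x = x from inv_smul_eq_iff.2 (S.fix ha.1).symm, hb' a ha]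
    have h3 : (a * b * a⁻¹) • b⁻¹ • x = x := by
      rw [← mul_smul, S.comm h1 (inv_mem hb), mul_smul, h2, inv_smul_smul]
    have h4 : (a * b * a⁻¹) • a • b⁻¹ • x = x := by
      rw [← mul_smul, inv_mul_cancel_right, mul_smul, smul_inv_smul, S.fix ha.1]
    exact smul_left_cancel _ (h4.trans h3.symm)

theorem mem_C1 {x y : X} {b : G} : b ∈ S.C1 x y ↔ b ∈ S.N y ∧ ∀ a ∈ S.A x y, a • b • x = b • x := Iff.rfl

theorem C1_line {x y : X} (h : x ≠ y) {b : G} (hb : b ∈ S.C1 x y) : b • x ∈ S.line x y := by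
  have hby : b • y = y := S.fix hb.1
  have hne : b • x ≠ y := fun e => h (smul_left_cancel b (e.trans hby.symm))
  refine le_antisymm ?_ ?_
  · rw [← S.card_A_eq hne h]
    exact Subgroup.card_le_of_le fun n hn => ⟨hn.1, (S.AB_fix h hn.2).2⟩
  · refine Nat.card_le_card_of_injective (fun a => ⟨b * a * b⁻¹, S.conj_mem b x a a.2.1, ?_⟩) ?_
    · obtain ⟨a, ha⟩ := a
      have hd : b * a * b⁻¹ * a⁻¹ ∈ S.A y x := by
        refine ⟨?_, ?_⟩
        · rw [show b * a * b⁻¹ * a⁻¹ = b * (a * b⁻¹ * a⁻¹) by group]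
          exact mul_mem hb.1 (S.conj_stab ha.2 (inv_mem hb.1))
        · change (b * a * b⁻¹ * a⁻¹) • x = x
          rw [mul_smul, mul_smul, mul_smul, show a⁻¹ • x = x from inv_smul_eq_iff.2 (S.fix ha.1).symm,
            ((S.C1 x y).inv_mem hb).2 a ha, smul_inv_smul]
      have := mul_mem (Subgroup.mem_sup_right hd) (Subgroup.mem_sup_left (S := S.A x y) ha)
      rwa [inv_mul_cancel_right] at this
    · intro m n e
      exact Subtype.ext (mul_left_cancel (mul_right_cancel (congrArg Subtype.val e)))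

/-- The stabiliser subgroup `A x y` fixes the orbit of `x` under `N y` pointwise. -/
theorem key {x y : X} (h : x ≠ y) {a b : G} (ha : a ∈ S.A x y) (hb : b ∈ S.N y) :
    a • b • x = b • x := by
  suffices hC : b ∈ S.C1 x y from hC.2 a ha
  by_contra hbC
  haveI : Fact S.p.Prime := ⟨S.hp⟩
  have hnC : ∀ a ∈ S.A x y, a ∈ Subgroup.normalizer (S.C1 x y : Set G) := by
    have hinv : ∀ a ∈ S.A x y, ∀ c ∈ S.C1 x y, a * c * a⁻¹ ∈ S.C1 x y := by
      intro a ha c hc
      have e : (a * c * a⁻¹) • x = c • x := by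
        rw [mul_smul, mul_smul, show a⁻¹ • x = x from inv_smul_eq_iff.2 (S.fix ha.1).symm, hc.2 a ha]
      exact ⟨S.conj_stab ha.2 hc.1, fun a' ha' => by rw [e]; exact hc.2 a' ha'⟩
    intro a ha
    rw [Subgroup.mem_normalizer_iff]
    refine fun c => ⟨hinv a ha c, fun hc => ?_⟩
    have := hinv a⁻¹ (inv_mem ha) _ hc
    rwa [show a⁻¹ * (a * c * a⁻¹) * a⁻¹⁻¹ = c by group] at this
  have hnN : ∀ a ∈ S.A x y, a ∈ Subgroup.normalizer (S.N y : Set G) := by
    intro a ha
    rw [Subgroup.mem_normalizer_iff]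
    refine fun c => ⟨S.conj_stab ha.2, fun hc => ?_⟩
    have := S.conj_stab (g := a⁻¹) (inv_smul_eq_iff.2 (show a • y = y from ha.2).symm) hc
    rwa [show a⁻¹ * (a * c * a⁻¹) * a⁻¹⁻¹ = c by group] at this
  set K : Subgroup G := S.A x y ⊔ S.N y with hKdef
  have hK : IsPGroup S.p K :=
    IsPGroup.to_sup_of_normal_right' (S.isPGroup_of_le inf_le_left) (S.isPGroup_of_le le_rfl) hnN
  haveI := hK.isNilpotent
  set H : Subgroup G := S.A x y ⊔ S.C1 x y with hHdef
  have hH : ∀ {g : G}, g ∈ H ↔ ∃ a ∈ S.A x y, ∃ c ∈ S.C1 x y, a * c = g := by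
    intro g
    rw [hHdef, ← SetLike.mem_coe, Subgroup.coe_mul_of_left_le_normalizer_right _ _ hnC, Set.mem_mul]
    rfl
  have hHN : ∀ {g : G}, g ∈ H → g ∈ S.N y → g ∈ S.C1 x y := by
    intro g hg hgN
    obtain ⟨a, ha, c, hc, rfl⟩ := hH.1 hg
    have haN : a ∈ S.N y := by
      have := mul_mem hgN (inv_mem hc.1)
      rwa [mul_inv_cancel_right] at this
    have : a = 1 := (Subgroup.eq_bot_iff_forall _).1 (S.ti h) a ⟨ha.1, haN⟩
    rwa [this, one_mul]
  have hlt : H.subgroupOf K < ⊤ := lt_top_iff_ne_top.2 fun e => hbC (hHN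
    (Subgroup.mem_subgroupOf.1 (e ▸ Subgroup.mem_top (⟨b, Subgroup.mem_sup_right hb⟩ : K))) hb)
  obtain ⟨⟨k, hkK⟩, hk, hkH⟩ :=
    SetLike.exists_of_lt (Group.normalizerCondition_of_isNilpotent (G := ↥K) _ hlt)
  rw [Subgroup.mem_subgroupOf] at hkH
  have hkK' := hkK
  rw [hKdef, ← SetLike.mem_coe, Subgroup.coe_mul_of_left_le_normalizer_right _ _ hnN, Set.mem_mul]
    at hkK'
  obtain ⟨a₁, ha₁, d, hd, hkd⟩ := hkK'
  have hdC : d ∉ S.C1 x y := fun hd' => hkH (hH.2 ⟨a₁, ha₁, d, hd', hkd⟩)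
  have hcomm : ∀ a ∈ S.A x y, a * d * a⁻¹ * d⁻¹ ∈ S.C1 x y := by
    intro a ha
    have h1 : k * a * k⁻¹ ∈ H := Subgroup.mem_subgroupOf.1
      ((Subgroup.mem_normalizer_iff.1 hk ⟨a, Subgroup.mem_sup_left ha⟩).1
        (Subgroup.mem_subgroupOf.2 (Subgroup.mem_sup_left ha)))
    have ha₁H : a₁ ∈ H := Subgroup.mem_sup_left ha₁
    have h2 : d * a * d⁻¹ ∈ H := by
      rw [show d * a * d⁻¹ = a₁⁻¹ * (k * a * k⁻¹) * a₁ by rw [← hkd]; group]
      exact mul_mem (mul_mem (inv_mem ha₁H) h1) ha₁H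
    refine hHN ?_ (mul_mem (S.conj_stab ha.2 hd) (inv_mem hd))
    rw [show a * d * a⁻¹ * d⁻¹ = a * (d * a * d⁻¹)⁻¹ by group]
    exact mul_mem (Subgroup.mem_sup_left ha) (inv_mem h2)
  obtain ⟨a, ha, haz⟩ : ∃ a ∈ S.A x y, a • d • x ≠ d • x := by
    by_contra hcon
    push Not at hcon
    exact hdC ⟨hd, hcon⟩
  set z := d • x with hz
  have hdy : d • y = y := S.fix hd
  have hzy : z ≠ y := fun e => h (smul_left_cancel d (e.trans hdy.symm))
  have hzx : x ≠ z := fun e => haz (by rw [← e, S.fix ha.1])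
  have hazL : a • z ∈ S.line y z := by
    set c := a * d * a⁻¹ * d⁻¹ with hc
    have hcC : c ∈ S.C1 x y := hcomm a ha
    have e : a • z = d • c • x := by
      rw [← mul_smul d c, S.comm hd hcC.1, hc, mul_smul, mul_smul, mul_smul, inv_smul_smul, hz,
        mul_smul, show a⁻¹ • x = x from inv_smul_eq_iff.2 (S.fix ha.1).symm]
    rw [e, S.line_symm (Ne.symm hzy)]
    have := S.line_smul_mem d h (S.C1_line h hcC)
    rwa [← hz, hdy] at this
  have hLzy : S.line y z = S.line z (a • z) :=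
    (S.line_eq (Ne.symm hzy) (S.right_mem_line (Ne.symm hzy)) hazL (Ne.symm haz)).symm
  have hsub : S.A x z ≤ S.A x y := by
    intro n hn
    have hnaz : n • a • z = a • z := by
      have hn' : n ∈ S.A x (a • z) := by rw [S.A_orbit ha.1]; exact hn
      exact hn'.2
    have hy' : n • y ∈ S.line y z := by
      have := S.line_smul_mem n (Ne.symm haz) (hLzy ▸ S.left_mem_line (Ne.symm hzy))
      rwa [show n • z = z from hn.2, hnaz, ← hLzy] at this
    refine ⟨hn.1, ?_⟩
    change n • y = y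
    by_contra hne
    have hay' : a • n • y = n • y := by
      rw [← mul_smul, S.comm ha.1 hn.1, mul_smul, show a • y = y from ha.2]
    have hbab : d * a * d⁻¹ ∈ S.AB y z := by
      refine Subgroup.mem_sup_right ?_
      have := S.A_conj d ha
      rwa [hdy, ← hz] at this
    have h5 : (d * a * d⁻¹) • n • y = n • y := S.line_fix (Ne.symm hzy) hy' hbab
    have hdd : a * d * a⁻¹ * d⁻¹ ∈ S.A y (n • y) := by
      refine ⟨(S.N y).mul_mem (S.conj_stab ha.2 hd) ((S.N y).inv_mem hd), ?_⟩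
      change (a * d * a⁻¹ * d⁻¹) • n • y = n • y
      rw [show a * d * a⁻¹ * d⁻¹ = a * (d * a * d⁻¹)⁻¹ by group, mul_smul,
        inv_smul_eq_iff.2 h5.symm, hay']
    rw [S.A_line (Ne.symm hzy) (S.left_mem_line (Ne.symm hzy)) hy' (S.right_mem_line (Ne.symm hzy))
      (fun e => hne e.symm) (Ne.symm hzy)] at hdd
    refine haz ?_
    calc a • z = (a * d * a⁻¹ * d⁻¹) • (d * a * d⁻¹) • z := by
            rw [← mul_smul (a * d * a⁻¹ * d⁻¹)]; congr 1; group
      _ = z := by rw [S.line_fix (Ne.symm hzy) (S.right_mem_line (Ne.symm hzy)) hbab]; exact hdd.2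
  have heq : S.A x z = S.A x y := Subgroup.eq_of_le_of_card_ge hsub (S.card_A_eq h hzx).le
  have ha' : a ∈ S.A x z := by rw [heq]; exact ha
  exact haz ha'.2

/-- A group stabilises every line through its point. -/
theorem smul_mem_line {x y : X} (h : x ≠ y) {n : G} (hn : n ∈ S.N x) : n • y ∈ S.line x y := by
  rw [S.line_symm h]
  exact S.C1_line (Ne.symm h) ⟨hn, fun a ha => S.key (Ne.symm h) ha hn⟩

theorem smul_mem_line' {x y w : X} (h : x ≠ y) {n : G} (hn : n ∈ S.N x) (hw : w ∈ S.line x y) :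
    n • w ∈ S.line x y := by
  have hne : n • y ≠ x := fun e => h (smul_left_cancel n (e.trans (S.fix hn).symm)).symm
  have := S.line_smul_mem n h hw
  rwa [S.fix hn, S.line_eq h (S.left_mem_line h) (S.smul_mem_line h hn) (Ne.symm hne)] at this

/-- An element of one of the groups fixing two points fixes their line pointwise. -/
theorem fix_line {x u w v : X} {g : G} (hg : g ∈ S.N x) (huw : u ≠ w) (hu : g • u = u) (hw : g • w = w)
    (hv : v ∈ S.line u w) : g • v = v := by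
  rcases eq_or_ne v x with rfl | hvx
  · exact S.fix hg
  by_cases hx : x ∈ S.line u w
  · obtain ⟨t, ht, htx, htfix⟩ : ∃ t ∈ S.line u w, x ≠ t ∧ g • t = t := by
      rcases eq_or_ne x u with rfl | hxu
      · exact ⟨w, S.right_mem_line huw, huw, hw⟩
      · exact ⟨u, S.left_mem_line huw, hxu, hu⟩
    have hA : g ∈ S.A x t := ⟨hg, htfix⟩
    rw [← S.inf_AB huw hx ht htx] at hA
    exact S.line_fix huw hv hA.2
  · by_contra hne
    have hgv : g • v ∈ S.line u w := by
      have := S.line_smul_mem g huw hv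
      rwa [hu, hw] at this
    have e1 := S.line_eq huw hv hgv (Ne.symm hne)
    have e2 := S.line_eq (Ne.symm hvx) (S.right_mem_line (Ne.symm hvx))
      (S.smul_mem_line (Ne.symm hvx) hg) (Ne.symm hne)
    exact hx (e1 ▸ e2.symm ▸ S.left_mem_line (Ne.symm hvx))

end Cfsg.Lib.ONan.Sys
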